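import Groth.Prelude.Def_PLie
import Mathlib.Algebra.Lie.Engel
import Mathlib.Algebra.Lie.Solvable
import Mathlib.Algebra.Lie.TraceForm
import Mathlib.Algebra.Lie.Killing
import Mathlib.LinearAlgebra.BilinearForm.Orthogonal

/-!
# Basic facts about restricted Lie algebras
-/

set_option autoImplicit false
universe u v w

namespace Groth.Agent.PLie23

open PLie

section General

variable {R : Type u} [CommRing R] {p : ℕ} [CharP R p] {L : Type v} [LieRing L] [LieAlgebra R L]

lemma ad_pow_lie (φ : PLie.PMap R p L) (x y : L) :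
    ⁅φ x, y⁆ = ((LieAlgebra.ad R L x) ^ p) y := by
  rw [← φ.ad_map x]; rfl

lemma map_zero (hp : p ≠ 0) (φ : PLie.PMap R p L) : φ 0 = 0 := by
  have h := φ.map_smul 0 0
  rwa [zero_smul, zero_pow hp, zero_smul] at h

lemma map_bracketWord {L' : Type w} [LieRing L'] [LieAlgebra R L'] (f : L →ₗ⁅R⁆ L')
    {ι : Type*} (x : ι → L) (x₁ : L) (l : List ι) :
    f (bracketWord x x₁ l) = bracketWord (f ∘ x) (f x₁) l := by
  induction l with
  | nil => rfl
  | cons i l ih => simp [ih]

lemma map_jacobson {L' : Type w} [LieRing L'] [LieAlgebra R L'] (f : L →ₗ⁅R⁆ L') (x₀ x₁ : L) :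
    f (jacobson R p x₀ x₁) = jacobson R p (f x₀) (f x₁) := by
  have hpair : f ∘ pair x₀ x₁ = pair (f x₀) (f x₁) := by
    funext b; cases b <;> simp [pair]
  unfold jacobson
  rw [map_sum]
  simp only [_root_.map_smul, map_bracketWord, hpair]

lemma bracketWord_zero {ι : Type*} (x : ι → L) (l : List ι) : bracketWord x 0 l = 0 := by
  induction l with
  | nil => rfl
  | cons i l ih => simp [ih]

lemma jacobson_zero_right (x₀ : L) : jacobson R p x₀ 0 = 0 := by
  simp [jacobson, bracketWord_zero]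

/-- `⁅φ x, y⁆` lies in any ideal containing `x`. -/
lemma lie_pMap_mem (hp : p ≠ 0) (φ : PLie.PMap R p L) (I : LieIdeal R L) {x : L} (hx : x ∈ I)
    (y : L) : ⁅φ x, y⁆ ∈ I := by
  obtain ⟨n, rfl⟩ := Nat.exists_eq_succ_of_ne_zero hp
  rw [ad_pow_lie, pow_succ', Module.End.mul_apply, LieAlgebra.ad_apply]
  exact lie_mem_left R L I x _ hx

lemma ad_eq_zero_iff (x : L) :
    LieAlgebra.ad R L x = 0 ↔ x ∈ LieAlgebra.center R L := by
  rw [LieModule.mem_maxTrivSubmodule]
  constructor
  · intro h y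
    rw [← lie_skew, ← LieAlgebra.ad_apply (R := R), h, LinearMap.zero_apply, neg_zero]
  · intro h
    ext y
    rw [LieAlgebra.ad_apply, ← lie_skew, h y, neg_zero, LinearMap.zero_apply]

lemma ad_iterate (φ : PLie.PMap R p L) (x : L) (n : ℕ) :
    LieAlgebra.ad R L (φ.toFun^[n] x) = LieAlgebra.ad R L x ^ (p ^ n) := by
  induction n with
  | zero => simp
  | succ n ih =>
    rw [Function.iterate_succ_apply', φ.ad_map, ih, ← pow_mul, pow_succ]

lemma isNilpotent_ad_of_isPNilpotent (φ : PLie.PMap R p L) {x : L} (h : IsPNilpotent φ x) :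
    IsNilpotent (LieAlgebra.ad R L x) := by
  obtain ⟨n, hn⟩ := h
  refine ⟨p ^ n, ?_⟩
  rw [← ad_iterate φ x n, hn, _root_.map_zero]

/-- A `p`-map which is pushed forward along a surjection with stable kernel. -/
lemma map_pMap_eq_of_map_eq (φ : PLie.PMap R p L) {L' : Type w} [LieRing L'] [LieAlgebra R L']
    (f : L →ₗ⁅R⁆ L') (hker : ∀ x : L, f x = 0 → f (φ x) = 0) {x y : L} (h : f x = f y) :
    f (φ x) = f (φ y) := by
  have hk : f (x - y) = 0 := by rw [_root_.map_sub, h, sub_self]
  have := φ.map_add y (x - y)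
  rw [add_sub_cancel] at this
  rw [this, _root_.map_sub, _root_.map_add, hker _ hk, map_jacobson, hk, jacobson_zero_right,
    add_zero, sub_zero]

end General

section Flag

variable {R : Type u} [CommRing R] {L : Type v} [LieRing L] [LieAlgebra R L]

/-- The flag `F 0 = ⊤`, `F (m+1) = span ⁅S, F m⁆`. -/
def flag (S : Set L) : ℕ → Submodule R L
  | 0 => ⊤
  | m + 1 => Submodule.span R {z | ∃ s ∈ S, ∃ f ∈ flag S m, ⁅s, f⁆ = z}

lemma lie_mem_flag_succ {S : Set L} {m : ℕ} {s f : L} (hs : s ∈ S)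
    (hf : f ∈ flag (R := R) S m) : ⁅s, f⁆ ∈ flag (R := R) S (m + 1) :=
  Submodule.subset_span ⟨s, hs, f, hf, rfl⟩

lemma flag_stable {S : Set L} (h : L) (hS : ∀ s ∈ S, ⁅h, s⁆ ∈ S) :
    ∀ (m : ℕ), ∀ f ∈ flag (R := R) S m, ⁅h, f⁆ ∈ flag (R := R) S m := by
  intro m
  induction m with
  | zero => intro f _; exact Submodule.mem_top
  | succ m ih =>
    have key : flag (R := R) S (m + 1) ≤
        (flag (R := R) S (m + 1)).comap (LieAlgebra.ad R L h) := by
      conv_lhs => rw [flag]
      rw [Submodule.span_le]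
      rintro z ⟨s, hs, f, hf, rfl⟩
      show ⁅h, ⁅s, f⁆⁆ ∈ flag (R := R) S (m + 1)
      rw [leibniz_lie]
      exact add_mem (lie_mem_flag_succ (hS s hs) hf) (lie_mem_flag_succ hs (ih f hf))
    exact fun f hf => key hf

lemma flag_succ_le {S : Set L} : ∀ m, flag (R := R) S (m + 1) ≤ flag (R := R) S m := by
  intro m
  induction m with
  | zero => exact le_top
  | succ m ih =>
    conv_lhs => rw [flag]
    rw [Submodule.span_le]
    rintro z ⟨s, hs, f, hf, rfl⟩
    exact lie_mem_flag_succ hs (ih hf)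

/-- If all `ad u`, `u ∈ U`, are nilpotent, the flag of `U` reaches `⊥`. -/
lemma exists_flag_eq_bot [IsNoetherian R L] (U : LieSubalgebra R L)
    (h : ∀ u ∈ U, IsNilpotent (LieAlgebra.ad R L u)) :
    ∃ K, flag (R := R) (U : Set L) K = ⊥ := by
  have hnil : LieModule.IsNilpotent U L := by
    rw [LieModule.isNilpotent_iff_forall' (R := R)]
    intro u
    exact h _ u.2
  obtain ⟨K, hK⟩ := LieModule.IsNilpotent.nilpotent R U L
  refine ⟨K, ?_⟩
  have hle : ∀ m, flag (R := R) (U : Set L) m ≤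
      (LieModule.lowerCentralSeries R U L m).toSubmodule := by
    intro m
    induction m with
    | zero => intro x _; simp
    | succ m ih =>
      conv_lhs => rw [flag]
      rw [Submodule.span_le]
      rintro z ⟨s, hs, f, hf, rfl⟩
      rw [SetLike.mem_coe, LieSubmodule.mem_toSubmodule, LieModule.lowerCentralSeries_succ]
      exact LieSubmodule.lie_mem_lie (LieSubmodule.mem_top (⟨s, hs⟩ : U)) (ih hf)
  rw [eq_bot_iff]
  refine (hle K).trans ?_
  rw [hK]; simp

lemma isNilpotent_of_flag {S : Set L} {K : ℕ} (hK : flag (R := R) S K = ⊥) (A : Module.End R L)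
    (hA : ∀ m, ∀ f ∈ flag (R := R) S m, A f ∈ flag (R := R) S (m + 1)) : IsNilpotent A := by
  refine ⟨K, LinearMap.ext fun x => ?_⟩
  have : ∀ m, (A ^ m) x ∈ flag (R := R) S m := by
    intro m
    induction m with
    | zero => simp [flag]
    | succ m ih => rw [pow_succ', Module.End.mul_apply]; exact hA m _ ih
  have := this K
  rw [hK, Submodule.mem_bot] at this
  simpa using this

/-- An ideal is nilpotent as a Lie ring iff all its elements are ad-nilpotent in `L`. -/
lemma lieIdeal_isNilpotent_iff [IsNoetherian R L] (I : LieIdeal R L) :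
    LieRing.IsNilpotent I ↔ ∀ y ∈ I, IsNilpotent (LieAlgebra.ad R L y) := by
  rw [LieAlgebra.isNilpotent_iff_forall (R := R)]
  constructor
  · intro h y hy
    obtain ⟨n, hn⟩ := h ⟨y, hy⟩
    refine ⟨n + 1, LinearMap.ext fun z => ?_⟩
    have hmem : ⁅y, z⁆ ∈ I := lie_mem_left R L I y z hy
    have key : ∀ m, (((LieAlgebra.ad R I ⟨y, hy⟩) ^ m) ⟨⁅y, z⁆, hmem⟩ : L)
        = ((LieAlgebra.ad R L y) ^ (m + 1)) z := by
      intro m
      induction m with
      | zero => simp
      | succ m ih =>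
        rw [pow_succ', Module.End.mul_apply, pow_succ' _ (m + 1), Module.End.mul_apply, ← ih]
        rfl
    rw [← key, hn]
    simp
  · intro h x
    obtain ⟨n, hn⟩ := h x.1 x.2
    refine ⟨n, LinearMap.ext fun z => Subtype.ext ?_⟩
    have key : ∀ m, (((LieAlgebra.ad R I x) ^ m) z : L)
        = ((LieAlgebra.ad R L x.1) ^ m) z := by
      intro m
      induction m with
      | zero => simp
      | succ m ih =>
        rw [pow_succ', Module.End.mul_apply, pow_succ' _ m, Module.End.mul_apply, ← ih]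
        rfl
    rw [key, hn]
    simp

/-- The submodule `I + R z` is an ideal as soon as `⁅z, L⁆ ⊆ I`. -/
def adjoin (I : LieIdeal R L) (z : L) (hz : ∀ y, ⁅z, y⁆ ∈ I) : LieIdeal R L where
  __ := I.toSubmodule ⊔ Submodule.span R {z}
  lie_mem := by
    intro y m hm
    change m ∈ I.toSubmodule ⊔ Submodule.span R {z} at hm
    obtain ⟨a, ha, b, hb, rfl⟩ := Submodule.mem_sup.mp hm
    obtain ⟨c, rfl⟩ := Submodule.mem_span_singleton.mp hb
    refine Submodule.mem_sup_left ?_
    rw [lie_add, lie_smul, ← lie_skew y z]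
    exact add_mem (lie_mem_right R L I y a ha) (Submodule.smul_mem _ c (neg_mem (hz y)))

lemma mem_adjoin {I : LieIdeal R L} {z : L} {hz : ∀ y, ⁅z, y⁆ ∈ I} {m : L} :
    m ∈ adjoin I z hz ↔ ∃ a ∈ I, ∃ c : R, a + c • z = m := by
  show m ∈ I.toSubmodule ⊔ Submodule.span R {z} ↔ _
  rw [Submodule.mem_sup]
  simp [Submodule.mem_span_singleton]

end Flag

end Groth.Agent.PLie23
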