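import Groth.Agent.Lib.PLie23.UEnv
import Groth.Prelude.Def_CartDual
import Mathlib.RingTheory.Derivation.Lie
import Mathlib.LinearAlgebra.Dual.Lemmas
import Mathlib.LinearAlgebra.FiniteDimensional.Basic

/-!
# The height one group scheme of a restricted Lie algebra
-/

set_option autoImplicit false
universe u v

namespace Groth.Agent.PLie23

open TensorProduct CartDual

variable {k : Type u} [Field k] {p : ℕ} [hp : Fact p.Prime] [CharP k p]
  {L : Type v} [LieRing L] [LieAlgebra k L] (φ : PLie.PMap k p L) [Module.Finite k (U φ)]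

/-- The dual of the restricted enveloping algebra. -/
abbrev DA := CartDual.D k (U φ)

omit [Module.Finite k (U φ)] in
theorem mul_apply_DA (f g : DA φ) (a : U φ) :
    (f * g).ofConv a = LinearMap.mul' k k (TensorProduct.map f.ofConv g.ofConv (comulU φ a)) :=
  LinearMap.convMul_apply f g a

/-- Right translation by `x`, transposed. -/
noncomputable def transLin (a : U φ) : DA φ →ₗ[k] DA φ where
  toFun f := WithConv.toConv (f.ofConv ∘ₗ LinearMap.mulRight k a)
  map_add' f g := by apply WithConv.ext; ext c; simp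
  map_smul' c f := by apply WithConv.ext; ext d; simp

omit [Module.Finite k (U φ)] in
@[simp] theorem transLin_apply (a : U φ) (f : DA φ) (c : U φ) :
    (transLin φ a f).ofConv c = f.ofConv (c * a) := rfl

omit [Module.Finite k (U φ)] in
theorem transLin_leibniz (x : L) (f g : DA φ) :
    transLin φ (ιU φ x) (f * g) = f • transLin φ (ιU φ x) g + g • transLin φ (ιU φ x) f := by
  rw [smul_eq_mul, smul_eq_mul, mul_comm g]
  apply WithConv.ext
  apply LinearMap.ext
  intro a
  simp only [transLin_apply, WithConv.ofConv_add, LinearMap.add_apply, mul_apply_DA, map_mul,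
    comulU_ι]
  generalize comulU φ a = t
  induction t using TensorProduct.induction_on with
  | zero => simp
  | add s s' hs hs' => simp only [add_mul, map_add, hs, hs']; abel
  | tmul c c' =>
    simp [mul_add, Algebra.TensorProduct.tmul_mul_tmul]
    ring

/-- The invariant derivation attached to an element of the Lie algebra. -/
noncomputable def eDer : L →ₗ[k] Derivation k (DA φ) (DA φ) where
  toFun x := Derivation.mk' (transLin φ (ιU φ x)) (transLin_leibniz φ x)
  map_add' x y := by
    ext f a
    show f.ofConv (a * ιU φ (x + y)) = f.ofConv (a * ιU φ x) + f.ofConv (a * ιU φ y)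
    rw [map_add, mul_add, map_add]
  map_smul' c x := by
    ext f a
    show f.ofConv (a * ιU φ (c • x)) = c • f.ofConv (a * ιU φ x)
    rw [map_smul, mul_smul_comm, map_smul]

omit [Module.Finite k (U φ)] in
theorem eDer_apply (x : L) (f : DA φ) (a : U φ) :
    (eDer φ x f).ofConv a = f.ofConv (a * ιU φ x) := rfl

omit [Module.Finite k (U φ)] in
theorem eDer_lie (x y : L) : eDer φ ⁅x, y⁆ = ⁅eDer φ x, eDer φ y⁆ := by
  ext f a
  rw [Derivation.commutator_apply]
  simp only [WithConv.ofConv_sub, LinearMap.sub_apply, eDer_apply, ιU_lie, mul_sub, map_sub,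
    mul_assoc]

omit [Module.Finite k (U φ)] in
theorem eDer_pow (x : L) : (eDer φ (φ x)).toLinearMap = (eDer φ x).toLinearMap ^ p := by
  have key : ∀ (n : ℕ) (f : DA φ) (a : U φ),
      (((eDer φ x).toLinearMap ^ n) f).ofConv a = f.ofConv (a * ιU φ x ^ n) := by
    intro n
    induction n with
    | zero => intro f a; simp
    | succ n ih =>
      intro f a
      rw [pow_succ, Module.End.mul_apply, ih, pow_succ, ← mul_assoc]
      exact eDer_apply φ x f _
  apply LinearMap.ext
  intro f
  apply WithConv.ext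
  apply LinearMap.ext
  intro a
  rw [key, ιU_pow]
  exact eDer_apply φ (φ x) f a

theorem eDer_injective (hι : Function.Injective (ιU φ)) : Function.Injective (eDer φ) := by
  refine (injective_iff_map_eq_zero (eDer φ)).mpr fun x hx => ?_
  apply hι
  rw [_root_.map_zero]
  refine (Module.forall_dual_apply_eq_zero_iff k (ιU φ x)).mp fun θ => ?_
  have := eDer_apply φ x (WithConv.toConv θ) 1
  rw [hx, one_mul] at this
  exact this.symm

theorem ev₂_lTensor (D : DA φ →ₗ[k] DA φ) (s : U φ) (c c' : U φ)
    (hD : ∀ h : DA φ, (D h).ofConv c' = h.ofConv s) (t : DA φ ⊗[k] DA φ) :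
    ev₂ k (U φ) (D.lTensor (DA φ) t) (c ⊗ₜ c') = ev₂ k (U φ) t (c ⊗ₜ s) := by
  induction t using TensorProduct.induction_on with
  | zero => simp
  | add s s' hs hs' => simp [hs, hs']
  | tmul g h => simp [coe_apply, hD]

theorem eDer_mem (x : L) :
    CoalgebraStruct.comul (R := k) (A := DA φ) ∘ₗ (eDer φ x).toLinearMap =
      LinearMap.lTensor (DA φ) (eDer φ x).toLinearMap ∘ₗ CoalgebraStruct.comul (R := k) (A := DA φ) := by
  apply LinearMap.ext
  intro f
  apply (ev₂ k (U φ)).injective
  apply TensorProduct.ext'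
  intro a c
  simp only [LinearMap.comp_apply]
  rw [ev₂_lTensor φ _ (c * ιU φ x) a c (fun h => eDer_apply φ x h c)]
  show ev₂ k (U φ) (Coalgebra.comul (R := k) _) (a ⊗ₜ c) =
    ev₂ k (U φ) (Coalgebra.comul (R := k) f) (a ⊗ₜ (c * ιU φ x))
  rw [ev₂_coalgebra_comul_tmul, ev₂_coalgebra_comul_tmul, ← mul_assoc]
  exact eDer_apply φ x f _

theorem exists_eq_eDer {ι : Type*} [LinearOrder ι] [Finite ι] (b : Module.Basis ι k L)
    (D : Derivation k (DA φ) (DA φ))
    (hD : CoalgebraStruct.comul (R := k) (A := DA φ) ∘ₗ D.toLinearMap =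
      LinearMap.lTensor (DA φ) D.toLinearMap ∘ₗ CoalgebraStruct.comul (R := k) (A := DA φ)) :
    ∃ x : L, eDer φ x = D := by
  let ξ : Module.Dual k (Module.Dual k (U φ)) :=
    LinearMap.applyₗ (1 : U φ) ∘ₗ (toDual k (U φ)).toLinearMap ∘ₗ D.toLinearMap ∘ₗ
      (toDual k (U φ)).symm.toLinearMap
  obtain ⟨s, hs⟩ := (Module.evalEquiv k (U φ)).surjective ξ
  have hDs : ∀ h : DA φ, (D h).ofConv 1 = h.ofConv s := by
    intro h
    have := LinearMap.congr_fun hs h.ofConv
    exact this.symm
  have hDf : ∀ (f : DA φ) (a : U φ), (D f).ofConv a = f.ofConv (a * s) := by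
    intro f a
    have h := LinearMap.congr_fun hD f
    simp only [LinearMap.comp_apply] at h
    have h' := congrArg (fun t => ev₂ k (U φ) t (a ⊗ₜ (1 : U φ))) h
    simp only [ev₂_lTensor φ D.toLinearMap s a 1 hDs] at h'
    have e1 := ev₂_coalgebra_comul_tmul k (U φ) (D f) a 1
    have e2 := ev₂_coalgebra_comul_tmul k (U φ) f a s
    rw [mul_one] at e1
    exact e1.symm.trans (h'.trans e2)
  have hprim : Coalgebra.comul (R := k) s = s ⊗ₜ 1 + 1 ⊗ₜ s := by
    rw [← sub_eq_zero]
    refine (Module.forall_dual_apply_eq_zero_iff k _).mp fun ψ => ?_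
    obtain ⟨t, rfl⟩ := (ev₂ k (U φ)).surjective ψ
    induction t using TensorProduct.induction_on with
    | zero => simp
    | add t t' ht ht' =>
      simp only [map_add, LinearMap.add_apply, ht, ht', add_zero]
    | tmul f g =>
      have h := congrArg (fun z : DA φ => z.ofConv 1) (D.leibniz f g)
      simp only [smul_eq_mul, WithConv.ofConv_add, LinearMap.add_apply] at h
      have hone : ∀ y z : DA φ, (y * z).ofConv 1 = y.ofConv 1 * z.ofConv 1 := fun y z => by
        rw [mul_apply_DA, map_one, Algebra.TensorProduct.one_def, TensorProduct.map_tmul,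
          LinearMap.mul'_apply]
      rw [hone, hone, hDs, hDs, hDs, mul_apply_DA] at h
      rw [map_sub, map_add, ev₂_tmul, ev₂_tmul, coe_apply, coe_apply, coe_apply, coe_apply,
        sub_eq_zero, ev₂_tmul_eq', LinearMap.comp_apply]
      show LinearMap.mul' k k (TensorProduct.map f.ofConv g.ofConv (comulU φ s)) = _
      rw [h]
      ring
  obtain ⟨x, hx⟩ := exists_of_primitive φ b hprim
  refine ⟨x, Derivation.ext fun f => WithConv.ext (LinearMap.ext fun a => ?_)⟩
  rw [eDer_apply, hx, hDf]

theorem pow_p_eq_zero (f : DA φ) (hf : Bialgebra.counitAlgHom k (DA φ) f = 0) : f ^ p = 0 := by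
  have hg1 : (f ^ p).ofConv 1 = 0 := by
    show Bialgebra.counitAlgHom k (DA φ) (f ^ p) = 0
    rw [map_pow, hf, zero_pow hp.out.ne_zero]
  have hD : ∀ (x : L) (a : U φ), (f ^ p).ofConv (a * ιU φ x) = 0 := by
    intro x a
    rw [← eDer_apply, Derivation.leibniz_pow, ← Nat.cast_smul_eq_nsmul k p, CharP.cast_eq_zero k p,
      zero_smul]
    rfl
  have key : ∀ a : U φ, ∀ y : U φ,
      (f ^ p).ofConv (y * a) = counitU φ a * (f ^ p).ofConv y := by
    intro a
    induction a using U_induction φ with
    | hc c =>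
      intro y
      rw [← Algebra.commutes, ← Algebra.smul_def, map_smul, AlgHom.commutes]
      rfl
    | hι x => intro y; rw [hD, counitU_ι, zero_mul]
    | hmul a c ha hc => intro y; rw [← mul_assoc, hc, ha, map_mul]; ring
    | hadd a c ha hc => intro y; rw [mul_add, map_add, ha, hc, map_add, add_mul]
  apply WithConv.ext
  apply LinearMap.ext
  intro a
  have := key a 1
  rw [one_mul, hg1, mul_zero] at this
  simpa using this

end Groth.Agent.PLie23
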