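import Groth.Agent.Lib.PLie23.PBW
import Mathlib.Algebra.Polynomial.Derivative
import Mathlib.Algebra.CharP.Lemmas
import Mathlib.Data.Nat.Choose.Dvd
import Mathlib.Algebra.Field.ZMod
import Mathlib.Data.Fin.Tuple.Basic
import Mathlib.Tactic.NoncommRing

/-!
# Jacobson's formula and existence of `p`-maps
-/

set_option autoImplicit false
universe u v w

namespace Groth.Agent.PLie23

open PLie Polynomial

lemma natCast_p_eq_zero (p : ℕ) (R : Type u) [CommRing R] [CharP R p] (A : Type v) [Ring A]
    [Algebra R A] : (p : A) = 0 := by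
  rw [← map_natCast (algebraMap R A) p, CharP.cast_eq_zero R p, _root_.map_zero]

section CharPAlg

variable {p : ℕ} [Fact p.Prime] {A : Type v} [Ring A]

lemma choose_pred_eq (hpA : (p : A) = 0) {i : ℕ} (hi : i ≤ p - 1) :
    (((p - 1).choose i : ℕ) : A) = (-1) ^ i := by
  have hp : p.Prime := Fact.out
  induction i with
  | zero => simp
  | succ i ih =>
    have h1 : p.choose (i + 1) = (p - 1).choose i + (p - 1).choose (i + 1) := by
      conv_lhs => rw [show p = (p - 1) + 1 by have := hp.one_le; omega]
      exact Nat.choose_succ_succ _ _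
    obtain ⟨c, hc⟩ := hp.dvd_choose_self (k := i + 1) (by omega) (by omega)
    have h2 := congrArg (Nat.cast : ℕ → A) h1
    rw [hc, Nat.cast_mul, hpA, zero_mul, Nat.cast_add, ih (by omega)] at h2
    rw [pow_succ, mul_neg_one]
    exact eq_neg_of_add_eq_zero_right h2.symm

/-- Commutator with `c`, as an operator. -/
def comm (c : A) : A →+ A := AddMonoidHom.mulLeft c - AddMonoidHom.mulRight c

@[simp] lemma comm_apply (c x : A) : comm c x = c * x - x * c := rfl

lemma iterate_comm (hpA : (p : A) = 0) (c x : A) :
    (comm c)^[p - 1] x = ∑ i ∈ Finset.range (p - 1 + 1), c ^ i * x * c ^ (p - 1 - i) := by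
  have key : ∀ n, (comm c)^[n] x =
      ∑ i ∈ Finset.range (n + 1), (((-1) ^ (n - i) * (n.choose i : ℤ)) • (c ^ i * x * c ^ (n - i))) := by
    intro n
    induction n with
    | zero => simp
    | succ n ih =>
      rw [Function.iterate_succ_apply', ih, map_sum, Finset.sum_range_succ' _ (n + 1)]
      simp only [map_zsmul, comm_apply]
      simp only [smul_sub, Finset.sum_sub_distrib, Nat.choose_succ_succ, Nat.cast_add, mul_add,
        add_smul, Finset.sum_add_distrib]
      have e1 : ∀ i ∈ Finset.range (n + 1),
          ((-1 : ℤ) ^ (n - i) * (n.choose i : ℤ)) • (c * (c ^ i * x * c ^ (n - i))) =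
          ((-1 : ℤ) ^ (n + 1 - (i + 1)) * (n.choose i : ℤ)) •
            (c ^ (i + 1) * x * c ^ (n + 1 - (i + 1))) := by
        intro i _
        rw [Nat.add_sub_add_right, pow_succ' c i]
        simp only [mul_assoc]
      rw [Finset.sum_congr rfl e1]
      have e2 : ∀ i ∈ Finset.range (n + 1),
          ((-1 : ℤ) ^ (n - i) * (n.choose i : ℤ)) • (c ^ i * x * c ^ (n - i) * c) =
          -(((-1 : ℤ) ^ (n + 1 - i) * (n.choose i : ℤ)) • (c ^ i * x * c ^ (n + 1 - i))) := by
        intro i hi
        have : n + 1 - i = (n - i) + 1 := by simp at hi; omega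
        rw [this, pow_succ c, pow_succ (-1 : ℤ), mul_neg_one, neg_mul, neg_smul, neg_neg, mul_assoc _ _ c]
      rw [Finset.sum_congr rfl e2, Finset.sum_neg_distrib, sub_neg_eq_add, Finset.sum_range_succ',
        Finset.sum_range_succ (fun i => ((-1 : ℤ) ^ (n + 1 - (i + 1)) * (n.choose (i + 1) : ℤ)) •
          (c ^ (i + 1) * x * c ^ (n + 1 - (i + 1)))) n, Nat.choose_succ_self]
      simp [add_assoc]
      rw [Finset.sum_range_succ']
      simp
  rw [key]
  refine Finset.sum_congr rfl fun i hi => ?_
  rw [Finset.mem_range] at hi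
  rw [zsmul_eq_mul, Int.cast_mul, Int.cast_pow, Int.cast_neg, Int.cast_one, Int.cast_natCast,
    choose_pred_eq (p := p) hpA (by omega), ← pow_add, Nat.sub_add_cancel (by omega)]
  rcases (Fact.out : p.Prime).eq_two_or_odd with h2 | hodd
  · subst h2
    have h11 : (-1 : A) = 1 := by
      rw [neg_eq_iff_add_eq_zero, one_add_one_eq_two]; exact hpA
    rw [h11, one_pow, one_mul]
  · rw [Even.neg_one_pow (by rw [Nat.even_iff]; omega), one_mul]

lemma derivative_pow_succ (F : A[X]) :
    ∀ n, derivative (F ^ (n + 1)) =
      ∑ i ∈ Finset.range (n + 1), F ^ i * derivative F * F ^ (n - i) := by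
  intro n
  induction n with
  | zero => simp
  | succ n ih =>
    rw [pow_succ, derivative_mul, ih, Finset.sum_range_succ _ (n + 1), Nat.sub_self, pow_zero,
      mul_one, Finset.sum_mul]
    congr 1
    refine Finset.sum_congr rfl fun i hi => ?_
    rw [Finset.mem_range] at hi
    rw [show n + 1 - i = (n - i) + 1 by omega, pow_succ F (n - i), mul_assoc]

/-- Iterated commutator along a list. -/
def word (a b : A) : List Bool → A
  | [] => b
  | i :: w => comm (if i then b else a) (word a b w)

lemma iterate_comm_line (a b : A) (n : ℕ) :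
    (comm (C a + C b * X : A[X]))^[n] (C b) =
      ∑ t : Fin n → Bool, C (word a b (List.ofFn t)) * X ^ Fintype.card {i // t i = true} := by
  classical
  induction n with
  | zero => simp [word]
  | succ n ih =>
    rw [Function.iterate_succ_apply', ih, map_sum,
      ← (Fin.consEquiv (fun _ => Bool)).sum_comp, Fintype.sum_prod_type, Fintype.sum_bool,
      ← Finset.sum_add_distrib]
    refine Finset.sum_congr rfl fun t _ => ?_
    have hc : ∀ v : Bool, Fintype.card {i : Fin (n + 1) // (Fin.consEquiv (fun _ => Bool)) (v, t) i = true}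
        = (if v then 1 else 0) + Fintype.card {i // t i = true} := by
      intro v
      rw [Fintype.card_subtype, Fintype.card_subtype, Fin.univ_succ, Finset.filter_cons,
        apply_ite Finset.card]
      simp only [Finset.filter_map, Finset.card_cons, Finset.card_map, Fin.consEquiv_apply,
        Fin.cons_zero]
      cases v <;> simp [Function.comp_def, add_comm]
    rw [hc, hc]
    simp only [Fin.consEquiv_apply, List.ofFn_succ, Fin.cons_zero, Fin.cons_succ, word, comm_apply, if_true, if_false,
      Bool.false_eq_true, zero_add, C_sub, C_mul]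
    set k := Fintype.card {i // t i = true}
    set W := C (word a b (List.ofFn t))
    have hX : ∀ (q : A[X]) (j : ℕ), X ^ j * q = q * X ^ j := fun q j => (commute_X_pow q j).eq
    have hX1 : ∀ (q : A[X]), X * q = q * X := fun q => (commute_X q).eq
    rw [show 1 + k = k + 1 by omega, pow_succ, add_mul, mul_add, mul_assoc (C b) X, hX1,
      mul_assoc W (X ^ k) (C a), hX (C a), mul_assoc W (X ^ k) (C b * X), hX (C b * X),
      mul_assoc (C b) X (X ^ k), ← pow_succ' X k, pow_succ X k]
    noncomm_ring

end CharPAlg

section Formula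

variable {p : ℕ} [hp : Fact p.Prime] {R : Type u} [CommRing R] [CharP R p] {A : Type v} [Ring A]
  [Algebra R A] {L : Type w} [LieRing L] [LieAlgebra R L] (e : L →ₗ[R] A)
  (he : ∀ x y : L, e ⁅x, y⁆ = e x * e y - e y * e x)

include he

omit hp [CharP R p] in
lemma map_bracketWord_pair (x y : L) (l : List Bool) :
    e (bracketWord (pair x y) y l) = word (e x) (e y) l := by
  induction l with
  | nil => rfl
  | cons i l ih => cases i <;> simp [word, he, ih, pair]

/-- Jacobson's formula. -/
theorem jacobson_formula (x y : L) :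
    (e x + e y) ^ p = e x ^ p + e y ^ p - e (jacobson R p x y) := by
  classical
  haveI : Fact (1 < p) := ⟨hp.out.one_lt⟩
  set a := e x
  set b := e y
  set F : A[X] := (C a + C b * X) ^ p with hF
  have hpA : (p : A) = 0 := natCast_p_eq_zero p R A
  have hpAX : (p : A[X]) = 0 := by rw [← C_eq_natCast, hpA, C_0]
  have hd : derivative F = ∑ t : Fin (p - 1) → Bool,
      C (word a b (List.ofFn t)) * X ^ Fintype.card {i // t i = true} := by
    rw [← iterate_comm_line, iterate_comm hpAX, hF]
    conv_lhs => rw [show p = (p - 1) + 1 by have := hp.out.one_le; omega, derivative_pow_succ]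
    refine Finset.sum_congr rfl fun i _ => ?_
    simp
  -- degree bound and the two extreme coefficients
  have hlin : (C a + C b * X : A[X]).natDegree ≤ 1 :=
    natDegree_add_le_of_degree_le (by simp) ((natDegree_C_mul_le b X).trans natDegree_X_le)
  have hdeg : F.natDegree < p + 1 :=
    Nat.lt_succ_of_le ((natDegree_pow_le_of_le p hlin).trans (by simp))
  have htop : F.coeff p = b ^ p := by
    have := coeff_pow_of_natDegree_le (m := p) hlin
    simpa using this
  have hzero : F.coeff 0 = a ^ p := by
    rw [hF, coeff_zero_eq_eval_zero]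
    simp [← coeff_zero_eq_eval_zero]
    exact map_pow (constantCoeff (R := A)) _ p |>.trans (by simp)
  have heval : (a + b) ^ p = ∑ n ∈ Finset.range (p + 1), F.coeff n := by
    have h1 : F.eval 1 = (a + b) ^ p := by
      let ev : A[X] →+* A := Polynomial.eval₂RingHom' (RingHom.id A) 1 (fun _ => Commute.one_right _)
      show ev F = _
      rw [hF, _root_.map_pow, _root_.map_add]
      simp [ev]
    rw [← h1, eval_eq_sum_range' hdeg]
    simp
  -- middle coefficients
  let κ : ℕ → R := fun n => (ZMod.castHom (dvd_refl p) R) ((n : ZMod p)⁻¹)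
  have hmid : ∀ m, m + 1 < p → F.coeff (m + 1) = algebraMap R A (κ (m + 1)) *
      (∑ t : Fin (p - 1) → Bool, if Fintype.card {i // t i = true} = m then
        word a b (List.ofFn t) else 0) := by
    intro m hm
    have h := congrArg (fun q => Polynomial.coeff q m) hd
    simp only [coeff_derivative, finsetSum_coeff, coeff_C_mul_X_pow] at h
    have hne : ((m + 1 : ℕ) : ZMod p) ≠ 0 := by
      rw [Ne, ZMod.natCast_eq_zero_iff]
      exact fun e => absurd (Nat.le_of_dvd (by omega) e) (by omega)
    have hinv : algebraMap R A (κ (m + 1)) * ((m : A) + 1) = 1 := by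
      have : ((m : A) + 1) = algebraMap R A (ZMod.castHom (dvd_refl p) R ((m + 1 : ℕ) : ZMod p)) := by
        rw [map_natCast, map_natCast]; push_cast; rfl
      rw [this, ← map_mul, ← map_mul, inv_mul_cancel₀ hne, map_one, map_one]
    have hcomm : F.coeff (m + 1) * ((m : A) + 1) = ((m : A) + 1) * F.coeff (m + 1) :=
      ((Nat.commute_cast _ m).add_right (Commute.one_right _)).eq
    rw [hcomm] at h
    calc F.coeff (m + 1) = algebraMap R A (κ (m + 1)) * (((m : A) + 1) * F.coeff (m + 1)) := by
          rw [← mul_assoc, hinv, one_mul]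
      _ = _ := by
          rw [h]
          simp only [eq_comm (a := m)]
  -- assemble
  have hJ : e (jacobson R p x y) = ∑ t : Fin (p - 1) → Bool,
      algebraMap R A (κ (Fintype.card {i // t i = false})) * word a b (List.ofFn t) := by
    rw [jacobson, map_sum]
    refine Finset.sum_congr rfl fun t _ => ?_
    rw [map_smul, map_bracketWord_pair e he, Algebra.smul_def]
  have hκ : ∀ r s : ℕ, r + s = p → κ r = - κ s := by
    intro r s hrs
    have : (r : ZMod p) = -(s : ZMod p) := by
      rw [eq_neg_iff_add_eq_zero, ← Nat.cast_add, hrs, ZMod.natCast_self]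
    simp only [κ, this, inv_neg, map_neg]
  have hcard : ∀ t : Fin (p - 1) → Bool,
      Fintype.card {i // t i = false} + Fintype.card {i // t i = true} = p - 1 := by
    intro t
    have h1 := Fintype.card_subtype_compl (fun i => t i = true)
    have h2 : Fintype.card {i // t i = false} = Fintype.card {i // ¬ t i = true} :=
      Fintype.card_congr (Equiv.subtypeEquivRight fun i => by simp)
    have h3 := Fintype.card_subtype_le (fun i => t i = true)
    simp at h1 h3 ⊢
    omega
  have hsum : ∑ m ∈ Finset.range (p - 1), F.coeff (m + 1) = - e (jacobson R p x y) := by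
    rw [hJ, ← Finset.sum_neg_distrib]
    rw [Finset.sum_congr rfl fun m hm => hmid m (by simp at hm; omega)]
    simp only [Finset.mul_sum, mul_ite, mul_zero]
    rw [Finset.sum_comm]
    refine Finset.sum_congr rfl fun t _ => ?_
    rw [Finset.sum_ite_eq]
    have := hcard t
    split_ifs with hm
    · rw [hκ (Fintype.card {i // t i = false}) (Fintype.card {i // t i = true} + 1)
        (by have := hp.out.one_le; omega), map_neg, neg_mul, neg_neg]
    · simp only [Finset.mem_range] at hm
      have : Fintype.card {i // t i = false} = 0 := by omega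
      simp [κ, this]
  have hsplit : ∑ n ∈ Finset.range (p + 1), F.coeff n =
      (∑ m ∈ Finset.range (p - 1), F.coeff (m + 1)) + F.coeff 0 + F.coeff p := by
    rw [Finset.sum_range_succ]
    congr 1
    obtain ⟨q, hq⟩ := Nat.exists_eq_succ_of_ne_zero hp.out.ne_zero
    subst hq
    rw [Finset.sum_range_succ']
    simp
  rw [heval, hsplit, hsum, htop, hzero]
  abel

end Formula

section Existence

variable {R : Type u} [CommRing R] {p : ℕ} [hp : Fact p.Prime] [CharP R p]
  {L : Type v} [LieRing L] [LieAlgebra R L] {ι : Type w}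

lemma eq_on_basis (b : Module.Basis ι R L) (φ ψ : PLie.PMap R p L) (h : ∀ i, φ (b i) = ψ (b i)) :
    φ = ψ := by
  have key : ∀ x, φ x = ψ x := by
    intro x
    induction b.mem_span x using Submodule.span_induction with
    | mem x hx => obtain ⟨i, rfl⟩ := hx; exact h i
    | zero => rw [map_zero hp.out.ne_zero, map_zero hp.out.ne_zero]
    | add x y _ _ hx hy => rw [φ.map_add, ψ.map_add, hx, hy]
    | smul c x _ hx => rw [φ.map_smul, ψ.map_smul, hx]
  rcases φ with ⟨f, a, b, c⟩
  rcases ψ with ⟨g, a', b', c'⟩
  congr 1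
  exact funext key

/-- Jacobson's existence theorem. -/
theorem exists_pMap_of_basis (b : Module.Basis ι R L) (y : ι → L)
    (hy : ∀ i : ι, LieAlgebra.ad R L (b i) ^ p = LieAlgebra.ad R L (y i)) :
    ∃ φ : PLie.PMap R p L, ∀ i : ι, φ (b i) = y i := by
  classical
  obtain ⟨A, _, _, e, hinj, he⟩ := exists_embedding b
  -- iterated commutators
  have had : ∀ (x z : L) (n : ℕ), e ((LieAlgebra.ad R L x ^ n) z) = (comm (e x))^[n] (e z) := by
    intro x z n
    induction n with
    | zero => simp
    | succ n ih =>
      rw [pow_succ', Module.End.mul_apply, LieAlgebra.ad_apply, he, ih, Function.iterate_succ_apply']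
      rfl
  have hpow : ∀ c z : A, (comm c)^[p] z = c ^ p * z - z * c ^ p := by
    intro c z
    have hpA : (p : A) = 0 := natCast_p_eq_zero p R A
    conv_lhs => rw [show p = (p - 1) + 1 by have := hp.out.one_le; omega,
      Function.iterate_succ_apply, iterate_comm hpA]
    simp only [comm_apply, mul_sub, sub_mul, Finset.sum_sub_distrib]
    rw [show p = (p - 1) + 1 by have := hp.out.one_le; omega]
    simp only [Nat.add_sub_cancel]
    generalize p - 1 = q
    have e1 : ∀ i ∈ Finset.range (q + 1), c ^ i * (c * z) * c ^ (q - i) =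
        c ^ (i + 1) * z * c ^ (q + 1 - (i + 1)) := by
      intro i _
      rw [Nat.add_sub_add_right, pow_succ c i]; simp only [mul_assoc]
    have e2 : ∀ i ∈ Finset.range (q + 1), c ^ i * (z * c) * c ^ (q - i) =
        c ^ i * z * c ^ (q + 1 - i) := by
      intro i hi
      have : q + 1 - i = (q - i) + 1 := by simp at hi; omega
      rw [this, pow_succ' c]; simp only [mul_assoc]
    rw [Finset.sum_congr rfl e1, Finset.sum_congr rfl e2, Finset.sum_range_succ,
      Finset.sum_range_succ' (fun i => c ^ i * z * c ^ (q + 1 - i))]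
    simp only [pow_zero, one_mul, Nat.sub_zero, Nat.sub_self, mul_one]
    abel
  -- the Frobenius-semilinear correction
  let δ : ι → A := fun i => e (y i) - e (b i) ^ p
  let ξ : L → A := fun x => (b.repr x).sum fun i c => c ^ p • δ i
  have hξadd : ∀ x z, ξ (x + z) = ξ x + ξ z := by
    intro x z
    show (b.repr (x + z)).sum _ = _
    rw [_root_.map_add]
    exact Finsupp.sum_add_index' (fun i => by simp [zero_pow hp.out.ne_zero])
      (fun i c d => by rw [add_pow_char, add_smul])
  have hξsmul : ∀ (c : R) x, ξ (c • x) = c ^ p • ξ x := by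
    intro c x
    show (b.repr (c • x)).sum _ = _
    rw [_root_.map_smul, Finsupp.sum_smul_index' (fun i => by simp [zero_pow hp.out.ne_zero]),
      Finsupp.smul_sum]
    simp [mul_pow, mul_smul]
  have hξb : ∀ i, ξ (b i) = δ i := by
    intro i
    show (b.repr (b i)).sum _ = _
    rw [Module.Basis.repr_self, Finsupp.sum_single_index (by simp [zero_pow hp.out.ne_zero]), one_pow,
      one_smul]
  have hsmulpow : ∀ (c : R) x, e (c • x) ^ p = c ^ p • e x ^ p := fun c x => by
    rw [_root_.map_smul, smul_pow]
  have hmem : ∀ x, ∃ z, e z = e x ^ p + ξ x := by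
    intro x
    induction b.mem_span x using Submodule.span_induction with
    | mem x hx =>
      obtain ⟨i, rfl⟩ := hx
      exact ⟨y i, by rw [hξb]; simp [δ]⟩
    | zero =>
      refine ⟨0, ?_⟩
      have := hξsmul 0 0
      rw [zero_smul, zero_pow hp.out.ne_zero, zero_smul] at this
      simp [this, zero_pow hp.out.ne_zero]
    | add x z _ _ hx hz =>
      obtain ⟨x', hx'⟩ := hx
      obtain ⟨z', hz'⟩ := hz
      refine ⟨x' + z' - jacobson R p x z, ?_⟩
      rw [_root_.map_sub, _root_.map_add, _root_.map_add e x z, hx', hz', hξadd,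
        jacobson_formula e he]
      abel
    | smul c x _ hx =>
      obtain ⟨x', hx'⟩ := hx
      exact ⟨c ^ p • x', by rw [_root_.map_smul, hx', smul_add, hsmulpow, hξsmul]⟩
  choose f hf using hmem
  have hξcomm : ∀ x z, ξ x * e z - e z * ξ x = 0 := by
    intro x z
    induction b.mem_span x using Submodule.span_induction with
    | mem x hx =>
      obtain ⟨i, rfl⟩ := hx
      have h := had (b i) z p
      rw [hpow, hy, LieAlgebra.ad_apply, he] at h
      rw [hξb]
      simp only [δ, sub_mul, mul_sub]
      rw [sub_eq_zero]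
      have := sub_eq_sub_iff_add_eq_add.mp h
      rw [sub_eq_sub_iff_add_eq_add]
      rw [this]; abel
    | zero =>
      have := hξsmul 0 0
      rw [zero_smul, zero_pow hp.out.ne_zero, zero_smul] at this
      simp [this]
    | add x w _ _ hx hw =>
      rw [hξadd, add_mul, mul_add]
      rw [sub_eq_zero] at hx hw ⊢
      rw [hx, hw]
    | smul c x _ hx =>
      rw [hξsmul, smul_mul_assoc, mul_smul_comm, ← smul_sub, hx, smul_zero]
  refine ⟨⟨f, fun c x => hinj ?_, fun x => ?_, fun x z => hinj ?_⟩, fun i => hinj ?_⟩
  · rw [hf, _root_.map_smul e (c ^ p), hf, hsmulpow, hξsmul, smul_add]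
  · refine LinearMap.ext fun z => hinj ?_
    rw [LieAlgebra.ad_apply, he, had, hpow, hf, add_mul, mul_add]
    have := hξcomm x z
    rw [← sub_eq_zero]
    calc _ = ξ x * e z - e z * ξ x := by abel
      _ = 0 := this
  · rw [hf, _root_.map_add e x z, hξadd, _root_.map_sub, _root_.map_add, hf, hf,
      jacobson_formula e he]
    abel
  · show e (f (b i)) = e (y i)
    rw [hf, hξb]
    simp [δ]

end Existence

end Groth.Agent.PLie23
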