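import Groth.Agent.Lib.PLie23.Basic
import Mathlib.Algebra.Lie.OfAssociative
import Mathlib.LinearAlgebra.Finsupp.Supported
import Mathlib.LinearAlgebra.Finsupp.LinearCombination
import Mathlib.LinearAlgebra.Basis.Basic
import Mathlib.Order.Extension.Well
import Mathlib.Tactic.Abel

/-!
# The faithful representation on ordered words over a commutative ring
-/

set_option autoImplicit false
universe u v w

namespace Groth.Agent.PLie23

open Finsupp

attribute [local instance 100] LieRing.ofAssociativeRing

section PBW

variable {k : Type u} [CommRing k] {L : Type v} [LieRing L] [LieAlgebra k L] {ι : Type w} [LinearOrder ι]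

/-- Sorted lists. -/
abbrev Word (ι : Type w) [LinearOrder ι] := {l : List ι // l.Pairwise (· ≤ ·)}

def Word.len (m : Word ι) : ℕ := m.1.length

def Word.cons (i : ι) (m : Word ι) (h : ∀ x ∈ m.1, i ≤ x) : Word ι :=
  ⟨i :: m.1, List.pairwise_cons.2 ⟨h, m.2⟩⟩

def Word.ins (i : ι) (m : Word ι) : Word ι :=
  ⟨m.1.orderedInsert (· ≤ ·) i, m.2.orderedInsert i⟩

theorem Word.len_ins (i : ι) (m : Word ι) : (m.ins i).len = m.len + 1 := by
  simp [Word.len, Word.ins, List.orderedInsert_length]

theorem Word.ins_of_low {i : ι} {m : Word ι} (h : ∀ x ∈ m.1, i ≤ x) : m.ins i = m.cons i h := by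
  obtain ⟨l, hl⟩ := m
  cases l with
  | nil => rfl
  | cons a t =>
    apply Subtype.ext
    exact List.orderedInsert_cons_of_le _ _ (h a (List.mem_cons_self ..))

variable (k ι) in
/-- Combinations of sorted words of length at most `d`. -/
noncomputable def upTo (d : ℕ) : Submodule k (Word ι →₀ k) :=
  Finsupp.supported k k {q | q.len ≤ d}

theorem upTo_mono {a c : ℕ} (h : a ≤ c) : upTo k ι a ≤ upTo k ι c :=
  Finsupp.supported_mono fun _ hq => le_trans hq h

theorem single_mem_upTo {q : Word ι} {d : ℕ} (h : q.len ≤ d) (a : k) : single q a ∈ upTo k ι d :=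
  Finsupp.single_mem_supported k a h

theorem comb_mem {M : Type*} [AddCommGroup M] [Module k M] {f : Word ι → M} {S : Submodule k M}
    {d : ℕ} (hf : ∀ q : Word ι, q.len ≤ d → f q ∈ S) {v : Word ι →₀ k} (hv : v ∈ upTo k ι d) :
    linearCombination k f v ∈ S := by
  rw [Finsupp.linearCombination_apply]
  exact Submodule.sum_mem _ fun q hq => S.smul_mem _ (hf q (hv hq))

theorem comb_congr {M : Type*} [AddCommGroup M] [Module k M] {f g : Word ι → M}
    {d : ℕ} (hf : ∀ q : Word ι, q.len ≤ d → f q = g q) {v : Word ι →₀ k} (hv : v ∈ upTo k ι d) :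
    linearCombination k f v = linearCombination k g v := by
  rw [Finsupp.linearCombination_apply, Finsupp.linearCombination_apply]
  exact Finset.sum_congr rfl fun q hq => congrArg (v q • ·) (hf q (hv hq))

variable (b : Module.Basis ι k L)

/-- The action of a basis vector on sorted words, with fuel. -/
noncomputable def act : ℕ → ι → Word ι → (Word ι →₀ k)
  | 0, i, m => single (m.ins i) 1
  | _ + 1, i, ⟨[], h⟩ => single (Word.ins i ⟨[], h⟩) 1
  | n + 1, i, ⟨j :: t, h⟩ =>
      single (Word.ins i ⟨j :: t, h⟩) 1 + if i ≤ j then 0 else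
        linearCombination k (act n j)
            (act n i ⟨t, h.of_cons⟩ - single (Word.ins i ⟨t, h.of_cons⟩) 1) +
          linearCombination k (fun q => act n q ⟨t, h.of_cons⟩) (b.repr ⁅b i, b j⁆)

theorem act_sub_mem : ∀ (n : ℕ) (i : ι) (m : Word ι),
    act b n i m - single (m.ins i) 1 ∈ upTo k ι m.len := by
  intro n
  induction n with
  | zero => intro i m; simp [act]
  | succ n ih =>
    have hact : ∀ (i : ι) (q : Word ι), act b n i q ∈ upTo k ι (q.len + 1) := by
      intro i q
      have h := add_mem (upTo_mono (Nat.le_succ _) (ih i q))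
        (single_mem_upTo (Word.len_ins i q).le (1 : k))
      simpa using h
    rintro i ⟨_ | ⟨j, t⟩, h⟩
    · simp [act]
    · simp only [act, add_sub_cancel_left]
      split
      · exact zero_mem _
      · refine add_mem (comb_mem (d := t.length) (fun q hq => ?_) (ih i ⟨t, h.of_cons⟩)) ?_
        · exact upTo_mono (by simp [Word.len]; exact hq) (hact j q)
        · rw [Finsupp.linearCombination_apply]
          exact Submodule.sum_mem _ fun q _ => Submodule.smul_mem _ _ (hact q ⟨t, h.of_cons⟩)

theorem act_succ : ∀ (n : ℕ) (i : ι) (m : Word ι), m.len ≤ n → act b (n + 1) i m = act b n i m := by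
  intro n
  induction n with
  | zero =>
    rintro i ⟨_ | ⟨j, t⟩, h⟩ hm
    · simp [act]
    · simp [Word.len] at hm
  | succ n ih =>
    rintro i ⟨_ | ⟨j, t⟩, h⟩ hm
    · simp [act]
    · have ht : t.length ≤ n := by simpa [Word.len] using hm
      rw [act, act]
      congr 1
      split
      · rfl
      · rw [ih i ⟨t, h.of_cons⟩ ht,
          comb_congr (fun q hq => ih j q (le_trans hq ht)) (act_sub_mem b n i ⟨t, h.of_cons⟩),
          show (fun q => act b (n + 1) q ⟨t, h.of_cons⟩) = fun q => act b n q ⟨t, h.of_cons⟩ from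
            funext fun q => ih q _ ht]

theorem act_stable {n : ℕ} {i : ι} {m : Word ι} (h : m.len ≤ n) : act b n i m = act b m.len i m := by
  induction n, h using Nat.le_induction with
  | base => rfl
  | succ n hn ih => rw [act_succ b n i m hn, ih]

/-- The operator attached to a basis vector. -/
noncomputable def rho (i : ι) : Module.End k (Word ι →₀ k) :=
  linearCombination k fun m => act b m.len i m

/-- The operator attached to a vector. -/
noncomputable def rhoL : L →ₗ[k] Module.End k (Word ι →₀ k) := b.constr k (rho b)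

theorem rhoL_basis (i : ι) : rhoL b (b i) = rho b i := b.constr_basis k _ i

theorem rho_single (i : ι) (m : Word ι) : rho b i (single m 1) = act b m.len i m := by
  simp [rho]

theorem rho_low {i : ι} {m : Word ι} (h : ∀ x ∈ m.1, i ≤ x) :
    rho b i (single m 1) = single (m.cons i h) 1 := by
  rw [rho_single, ← Word.ins_of_low h]
  obtain ⟨_ | ⟨j, t⟩, hm⟩ := m
  · simp [Word.len, act]
  · simp [Word.len, act, h j (List.mem_cons_self ..)]

theorem rho_sub_mem (i : ι) (m : Word ι) :
    rho b i (single m 1) - single (m.ins i) 1 ∈ upTo k ι m.len := by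
  rw [rho_single]; exact act_sub_mem b _ i m

theorem rho_step {i j : ι} {m : Word ι} (hj : ∀ x ∈ m.1, j ≤ x) (hij : j < i) :
    rho b i (single (m.cons j hj) 1) =
      rho b j (rho b i (single m 1)) + rhoL b ⁅b i, b j⁆ (single m 1) := by
  have hlow : ∀ x ∈ (m.ins i).1, j ≤ x := fun x hx => by
    rcases List.mem_orderedInsert (r := (· ≤ ·)).1 hx with rfl | hx
    exacts [hij.le, hj x hx]
  have hins : (m.cons j hj).ins i = (m.ins i).cons j hlow :=
    Subtype.ext (List.orderedInsert_of_not_le (r := (· ≤ ·)) m.1 hij.not_ge)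
  rw [rho_single b i (m.cons j hj)]
  change act b (m.len + 1) i ⟨j :: m.1, _⟩ = _
  rw [act, if_neg hij.not_ge]
  have h1 : linearCombination k (act b m.len j) (act b m.len i m - single (m.ins i) 1) =
      rho b j (rho b i (single m 1)) - single ((m.ins i).cons j hlow) 1 := by
    rw [comb_congr (g := fun q => act b q.len j q) (fun q hq => act_stable b hq)
      (act_sub_mem b _ i m)]
    change rho b j _ = _
    rw [map_sub, rho_low b hlow, rho_single b i m]
  have h2 : linearCombination k (fun q => act b m.len q m) (b.repr ⁅b i, b j⁆) =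
      rhoL b ⁅b i, b j⁆ (single m 1) := by
    rw [rhoL, Module.Basis.constr_apply, Finsupp.linearCombination_apply, Finsupp.sum,
      Finsupp.sum, LinearMap.sum_apply]
    exact Finset.sum_congr rfl fun q _ => by rw [LinearMap.smul_apply, rho_single]
  change single ((m.cons j hj).ins i) 1 + (linearCombination k (act b m.len j)
      (act b m.len i m - single (m.ins i) 1) +
      linearCombination k (fun q => act b m.len q m) (b.repr ⁅b i, b j⁆)) = _
  rw [h1, h2, hins]
  abel

/-- The commutation relation of `x` and `y` at `v`. -/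
def Comm (x y : L) (v : Word ι →₀ k) : Prop :=
  rhoL b x (rhoL b y v) - rhoL b y (rhoL b x v) = rhoL b ⁅x, y⁆ v

theorem comm_symm {x y : L} {v : Word ι →₀ k} (h : Comm b x y v) : Comm b y x v := by
  simp only [Comm] at *
  rw [← lie_skew y x, map_neg, LinearMap.neg_apply, ← h, neg_sub]

theorem comm_low {i j : ι} (hji : j ≤ i) {m : Word ι} (hj : ∀ x ∈ m.1, j ≤ x) :
    Comm b (b i) (b j) (single m 1) := by
  rcases hji.eq_or_lt with rfl | h
  · simp [Comm]
  · simp only [Comm, rhoL_basis]
    rw [rho_low b hj, rho_step b hj h, add_sub_cancel_left]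

theorem comm_of_basis {v : Word ι →₀ k} (h : ∀ i j, Comm b (b i) (b j) v) (x y : L) :
    Comm b x y v := by
  have hy : ∀ i, Comm b (b i) y v := by
    intro i
    induction b.mem_span y using Submodule.span_induction with
    | mem y hy => obtain ⟨j, rfl⟩ := hy; exact h i j
    | zero => simp [Comm]
    | add y z _ _ hy hz =>
      simp only [Comm, lie_add, map_add, LinearMap.add_apply] at *
      rw [← hy, ← hz]; abel
    | smul a y _ hy =>
      simp only [Comm, lie_smul, map_smul, LinearMap.smul_apply] at *
      rw [← hy, smul_sub]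
  induction b.mem_span x using Submodule.span_induction with
  | mem x hx => obtain ⟨i, rfl⟩ := hx; exact hy i
  | zero => simp [Comm]
  | add x z _ _ hx hz =>
    simp only [Comm, add_lie, map_add, LinearMap.add_apply] at *
    rw [← hx, ← hz]; abel
  | smul a x _ hx =>
    simp only [Comm, smul_lie, map_smul, LinearMap.smul_apply] at *
    rw [← hx, smul_sub]

theorem comm_of_mem {x y : L} {d : ℕ}
    (h : ∀ q : Word ι, q.len ≤ d → Comm b x y (single q 1))
    {v : Word ι →₀ k} (hv : v ∈ upTo k ι d) : Comm b x y v := by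
  rw [upTo, Finsupp.supported_eq_span_single] at hv
  induction hv using Submodule.span_induction with
  | mem v hv => obtain ⟨q, hq, rfl⟩ := hv; exact h q hq
  | zero => simp [Comm]
  | add v w _ _ hv hw =>
    simp only [Comm, map_add] at *
    rw [← hv, ← hw]; abel
  | smul a v _ hv =>
    simp only [Comm, map_smul] at *
    rw [← hv, smul_sub]

theorem comm_all : ∀ (N : ℕ) (m : Word ι), m.len ≤ N → ∀ i j, Comm b (b i) (b j) (single m 1) := by
  intro N
  induction N using Nat.strong_induction_on with
  | _ N ih =>
  rintro ⟨l, hl⟩ hm i j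
  have low : ∀ {p q : ι}, (∀ x ∈ l, p ≤ x) → p ≤ q → Comm b (b q) (b p) (single ⟨l, hl⟩ 1) :=
    fun hp hpq => comm_low b hpq hp
  cases l with
  | nil =>
    rcases le_total j i with h | h
    · exact low (by simp) h
    · exact comm_symm b (low (by simp) h)
  | cons a t =>
  have ha : ∀ x ∈ t, a ≤ x := (List.pairwise_cons.1 hl).1
  have low' : ∀ {p q : ι}, p ≤ a → p ≤ q → Comm b (b q) (b p) (single ⟨a :: t, hl⟩ 1) :=
    fun hp hpq => low (List.forall_mem_cons.2 ⟨hp, fun x hx => le_trans hp (ha x hx)⟩) hpq
  by_cases hja : j ≤ a ∧ j ≤ i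
  · exact low' hja.1 hja.2
  by_cases hia : i ≤ a ∧ i ≤ j
  · exact comm_symm b (low' hia.1 hia.2)
  have hai : a < i := lt_of_not_ge fun h => by
    rcases le_total i j with h' | h'
    exacts [hia ⟨h, h'⟩, hja ⟨le_trans h' h, h'⟩]
  have haj : a < j := lt_of_not_ge fun h => by
    rcases le_total i j with h' | h'
    exacts [hia ⟨le_trans h' h, h'⟩, hja ⟨h, h'⟩]
  let T : Word ι := ⟨t, hl.of_cons⟩
  have hlen : T.len < N := by simp [T, Word.len] at hm ⊢; omega
  have IH : ∀ x y : L, Comm b x y (single T 1) :=
    comm_of_basis b fun p q => ih T.len hlen T le_rfl p q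
  have key : ∀ p q, a < p → a < q → Comm b (b q) (b a) (rhoL b (b p) (single T 1)) := by
    intro p q hp hq
    rw [rhoL_basis]
    have e : rho b p (single T 1) =
        single (T.ins p) 1 + (rho b p (single T 1) - single (T.ins p) 1) := by abel
    rw [e]
    have hins : Comm b (b q) (b a) (single (T.ins p) 1) :=
      comm_low b hq.le fun x hx => by
        rcases List.mem_orderedInsert (r := (· ≤ ·)).1 hx with rfl | hx
        exacts [hp.le, ha x hx]
    have hrest : Comm b (b q) (b a) (rho b p (single T 1) - single (T.ins p) 1) :=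
      comm_of_mem b (fun w hw => ih w.len (lt_of_le_of_lt hw hlen) w le_rfl q a)
        (rho_sub_mem b p T)
    simp only [Comm, map_add] at *
    rw [← hins, ← hrest]; abel
  have hm' : (single ⟨a :: t, hl⟩ 1 : Word ι →₀ k) = rhoL b (b a) (single T 1) := by
    rw [rhoL_basis, rho_low b (m := T) ha]; rfl
  have K1 := key j i haj hai
  have K2 := key i j hai haj
  have S1 := IH (b i) (b a)
  have S2 := IH (b j) (b a)
  have S3 := IH ⁅b i, b j⁆ (b a)
  have S4 := IH ⁅b i, b a⁆ (b j)
  have S5 := IH (b i) ⁅b j, b a⁆
  simp only [Comm] at *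
  rw [sub_eq_iff_eq_add] at K1 K2 S1 S2 S3 S4 S5
  have S0 := IH (b i) (b j)
  simp only [sub_eq_iff_eq_add] at S0
  rw [hm', S2, S1, map_add (rhoL b (b i)), map_add (rhoL b (b j)), K1, K2, S4, S5, S0,
    map_add (rhoL b (b a)), S3, leibniz_lie (b i) (b j) (b a), map_add, LinearMap.add_apply,
    ← lie_skew ⁅b i, b a⁆ (b j), map_neg, LinearMap.neg_apply]
  abel

/-- The representation on sorted words. -/
noncomputable def rep : L →ₗ⁅k⁆ Module.End k (Word ι →₀ k) :=
  { rhoL b with
    map_lie' := fun {x y} => by
      apply Finsupp.lhom_ext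
      intro m c
      have h := comm_of_basis b (comm_all b m.len m le_rfl) x y
      simp only [Comm] at h
      have e : single m c = c • single m (1 : k) := by simp
      simp only [AddHom.toFun_eq_coe, LinearMap.coe_toAddHom]
      rw [e, map_smul, map_smul, LieRing.of_associative_ring_bracket, LinearMap.sub_apply,
        Module.End.mul_apply, Module.End.mul_apply, ← h] }

theorem rep_apply (x : L) : rep b x = rhoL b x := rfl

theorem rhoL_nil (x : L) : rhoL b x (Finsupp.single (⟨[], List.Pairwise.nil⟩ : Word ι) 1) =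
    (b.repr x).mapDomain (fun i => (⟨[i], List.pairwise_singleton _ i⟩ : Word ι)) := by
  rw [rhoL, Module.Basis.constr_apply, Finsupp.mapDomain, Finsupp.sum, Finsupp.sum,
    LinearMap.sum_apply]
  refine Finset.sum_congr rfl fun i _ => ?_
  rw [LinearMap.smul_apply, rho_low b (by simp)]
  simp [Word.cons]

theorem rep_injective : Function.Injective (rep b) := by
  intro x y h
  have h' := congrArg (fun T => T (Finsupp.single (⟨[], List.Pairwise.nil⟩ : Word ι) (1 : k))) h
  simp only [rep_apply, rhoL_nil] at h'
  apply b.repr.injective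
  refine Finsupp.mapDomain_injective (fun i j hij => ?_) h'
  exact List.singleton_inj.mp (congrArg Subtype.val hij)

end PBW

section Faithful

variable {R : Type u} [CommRing R] {L : Type v} [LieRing L] [LieAlgebra R L] {ι : Type w}

/-- A Lie algebra which is free as a module embeds in an associative algebra. -/
theorem exists_embedding (b : Module.Basis ι R L) :
    ∃ (A : Type (max u w)) (_ : Ring A) (_ : Algebra R A) (e : L →ₗ[R] A),
      Function.Injective e ∧ ∀ x y : L, e ⁅x, y⁆ = e x * e y - e y * e x := by
  classical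
  letI : LinearOrder ι := linearOrderOfSTO WellOrderingRel
  refine ⟨Module.End R (Word ι →₀ R), inferInstance, inferInstance,
    (rep b).toLinearMap, rep_injective b, fun x y => ?_⟩
  exact LieHom.map_lie (rep b) x y

end Faithful

end Groth.Agent.PLie23
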