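import Groth.Agent.Lib.PLie23.Jacobson
import Mathlib.Data.Multiset.Sort
import Mathlib.LinearAlgebra.Finsupp.LSum

/-!
# The restricted PBW representation of a restricted Lie algebra
-/

set_option autoImplicit false
universe u v w

namespace Groth.Agent.PLie23

open Finsupp PLie

attribute [local instance 100] LieRing.ofAssociativeRing

section Commutators

variable {p : ℕ} [hp : Fact p.Prime] {A : Type v} [Ring A]

lemma iterate_comm_prime (hpA : (p : A) = 0) (c z : A) :
    (comm c)^[p] z = c ^ p * z - z * c ^ p := by
  conv_lhs => rw [show p = (p - 1) + 1 by have := hp.out.one_le; omega,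
    Function.iterate_succ_apply, iterate_comm hpA]
  simp only [comm_apply, mul_sub, sub_mul, Finset.sum_sub_distrib]
  rw [show p = (p - 1) + 1 by have := hp.out.one_le; omega]
  simp only [Nat.add_sub_cancel]
  generalize p - 1 = q
  have e1 : ∀ i ∈ Finset.range (q + 1), c ^ i * (c * z) * c ^ (q - i) =
      c ^ (i + 1) * z * c ^ (q + 1 - (i + 1)) := by
    intro i _
    rw [Nat.add_sub_add_right, pow_succ c i]; simp only [mul_assoc]
  have e2 : ∀ i ∈ Finset.range (q + 1), c ^ i * (z * c) * c ^ (q - i) =
      c ^ i * z * c ^ (q + 1 - i) := by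
    intro i hi
    have : q + 1 - i = (q - i) + 1 := by simp at hi; omega
    rw [this, pow_succ' c]; simp only [mul_assoc]
  rw [Finset.sum_congr rfl e1, Finset.sum_congr rfl e2, Finset.sum_range_succ,
    Finset.sum_range_succ' (fun i => c ^ i * z * c ^ (q + 1 - i))]
  simp only [pow_zero, one_mul, Nat.sub_zero, Nat.sub_self, mul_one]
  abel

variable {R : Type u} [CommRing R] [CharP R p] [Algebra R A] {L : Type w} [LieRing L] [LieAlgebra R L]
  (e : L →ₗ[R] A) (he : ∀ x y : L, e ⁅x, y⁆ = e x * e y - e y * e x)

include he

omit hp [CharP R p] in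
lemma map_ad_pow (x z : L) :
    ∀ n, e ((LieAlgebra.ad R L x ^ n) z) = (comm (e x))^[n] (e z) := by
  intro n
  induction n with
  | zero => simp
  | succ n ih =>
    rw [pow_succ', Module.End.mul_apply, LieAlgebra.ad_apply, he, ih, Function.iterate_succ_apply']
    rfl

lemma pow_sub_map_commute (φ : PLie.PMap R p L) (x y : L) :
    Commute (e x ^ p - e (φ x)) (e y) := by
  have h : e x ^ p * e y - e y * e x ^ p = e (φ x) * e y - e y * e (φ x) := by
    rw [← iterate_comm_prime (natCast_p_eq_zero p R A), ← map_ad_pow e he, ← ad_pow_lie φ, he]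
  rw [sub_eq_sub_iff_add_eq_add] at h
  rw [commute_iff_eq, sub_mul, mul_sub, sub_eq_sub_iff_add_eq_add, h]
  abel

/-- A Lie map compatible with the `p`-powers on a basis is compatible everywhere. -/
lemma map_pMap_of_basis (φ : PLie.PMap R p L) {ι : Type*} (b : Module.Basis ι R L)
    (h : ∀ i, e (φ (b i)) = e (b i) ^ p) (x : L) : e (φ x) = e x ^ p := by
  induction b.mem_span x using Submodule.span_induction with
  | mem x hx => obtain ⟨i, rfl⟩ := hx; exact h i
  | zero => rw [map_zero hp.out.ne_zero, _root_.map_zero, zero_pow hp.out.ne_zero]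
  | add x y _ _ hx hy =>
    rw [φ.map_add, _root_.map_sub, _root_.map_add, _root_.map_add e x y, hx, hy,
      jacobson_formula e he]
  | smul c x _ hx => rw [φ.map_smul, _root_.map_smul, _root_.map_smul, hx, smul_pow]

end Commutators

section Words

variable {ι : Type w} [LinearOrder ι]

/-- The multiset of letters of a word. -/
def Word.ms (m : Word ι) : Multiset ι := (m.1 : Multiset ι)

/-- The sorted word of a multiset. -/
def Word.ofMS (s : Multiset ι) : Word ι := ⟨s.sort (· ≤ ·), Multiset.pairwise_sort s (· ≤ ·)⟩

theorem Word.ms_injective : Function.Injective (Word.ms (ι := ι)) := by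
  intro m m' h
  exact Subtype.ext ((Multiset.coe_eq_coe.mp h).eq_of_pairwise' m.2 m'.2)

@[simp] theorem Word.ms_ofMS (s : Multiset ι) : (Word.ofMS s).ms = s :=
  Multiset.sort_eq s (· ≤ ·)

@[simp] theorem Word.ofMS_ms (m : Word ι) : Word.ofMS m.ms = m :=
  Word.ms_injective (by simp)

theorem Word.ms_ins (i : ι) (m : Word ι) : (m.ins i).ms = i ::ₘ m.ms := by
  rw [Word.ms, Word.ms, Word.ins, Multiset.cons_coe, Multiset.coe_eq_coe]
  exact List.perm_orderedInsert _ i m.1

theorem Word.len_eq_card (m : Word ι) : m.len = m.ms.card := rfl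

theorem Word.len_ofMS (s : Multiset ι) : (Word.ofMS s).len = s.card := by
  rw [Word.len_eq_card, Word.ms_ofMS]

theorem Word.ins_iterate (i : ι) (m : Word ι) :
    ∀ n, (Word.ins i)^[n] m = Word.ofMS (m.ms + Multiset.replicate n i) := by
  intro n
  induction n with
  | zero => simp
  | succ n ih =>
    apply Word.ms_injective
    rw [Function.iterate_succ_apply', Word.ms_ins, ih, Word.ms_ofMS, Word.ms_ofMS,
      Multiset.replicate_succ, Multiset.add_cons]

end Words

section Restricted

variable {k : Type u} [CommRing k] {p : ℕ} [hp : Fact p.Prime] [CharP k p]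
  {L : Type v} [LieRing L] [LieAlgebra k L] {ι : Type w} [LinearOrder ι]
  (φ : PLie.PMap k p L) (b : Module.Basis ι k L)

variable (k ι) in
/-- Combinations of sorted words of length less than `d`. -/
noncomputable def below (d : ℕ) : Submodule k (Word ι →₀ k) :=
  Finsupp.supported k k {q | q.len < d}

omit hp [CharP k p] in
theorem upTo_le_below {a c : ℕ} (h : a < c) : upTo k ι a ≤ below k ι c :=
  Finsupp.supported_mono fun _ hq => lt_of_le_of_lt hq h

omit hp [CharP k p] in
theorem mem_of_single {S T : Submodule k (Word ι →₀ k)} {P : Word ι → Prop}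
    (hS : S = Finsupp.supported k k {q | P q}) (f : Module.End k (Word ι →₀ k))
    (hf : ∀ q, P q → f (single q 1) ∈ T) {v : Word ι →₀ k} (hv : v ∈ S) : f v ∈ T := by
  subst hS
  rw [Finsupp.supported_eq_span_single] at hv
  induction hv using Submodule.span_induction with
  | mem v hv => obtain ⟨q, hq, rfl⟩ := hv; exact hf q hq
  | zero => simp
  | add v w _ _ hv hw => rw [_root_.map_add]; exact add_mem hv hw
  | smul c v _ hv => rw [_root_.map_smul]; exact T.smul_mem c hv

omit hp [CharP k p] in
theorem rho_mem (i : ι) {d : ℕ} {v : Word ι →₀ k} (hv : v ∈ upTo k ι d) :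
    rho b i v ∈ upTo k ι (d + 1) := by
  refine mem_of_single rfl _ (fun q hq => ?_) hv
  have h := add_mem (upTo_mono (c := d + 1) (by omega) (rho_sub_mem b i q))
    (single_mem_upTo (d := d + 1) ((Word.len_ins i q).le.trans (by omega)) (1 : k))
  simpa using h

omit hp [CharP k p] in
theorem rhoL_mem (x : L) {d : ℕ} {v : Word ι →₀ k} (hv : v ∈ upTo k ι d) :
    rhoL b x v ∈ upTo k ι (d + 1) := by
  induction b.mem_span x using Submodule.span_induction with
  | mem x hx => obtain ⟨i, rfl⟩ := hx; rw [rhoL_basis]; exact rho_mem b i hv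
  | zero => simp
  | add x y _ _ hx hy => simp only [_root_.map_add, LinearMap.add_apply]; exact add_mem hx hy
  | smul c x _ hx => simp only [_root_.map_smul, LinearMap.smul_apply]; exact Submodule.smul_mem _ c hx

omit hp [CharP k p] in
theorem rho_pow_sub_mem (i : ι) (m : Word ι) :
    ∀ n, (rho b i ^ (n + 1)) (single m 1) - single ((Word.ins i)^[n + 1] m) 1 ∈
      upTo k ι (m.len + n) := by
  intro n
  induction n with
  | zero => simpa using rho_sub_mem b i m
  | succ n ih =>
    rw [pow_succ' _ (n + 1), Module.End.mul_apply, Function.iterate_succ_apply' _ (n + 1)]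
    set q := (Word.ins i)^[n + 1] m
    have hq : q.len = m.len + (n + 1) := by
      rw [show q = _ from Word.ins_iterate i m (n + 1), Word.len_ofMS, Word.len_eq_card]; simp [Nat.add_assoc]
    have h1 : rho b i (single q 1) - single (q.ins i) 1 ∈ upTo k ι (m.len + (n + 1)) :=
      hq ▸ rho_sub_mem b i q
    have h2 := rho_mem b i ih
    rw [_root_.map_sub] at h2
    have := add_mem (upTo_mono (c := m.len + (n + 1)) (by omega) h2) h1
    rwa [sub_add_sub_cancel] at this

/-- The central element attached to a basis vector. -/
noncomputable def zOp (i : ι) : Module.End k (Word ι →₀ k) :=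
  rhoL b (b i) ^ p - rhoL b (φ (b i))

omit hp [CharP k p] in
theorem rhoL_lie (x y : L) : rhoL b ⁅x, y⁆ = rhoL b x * rhoL b y - rhoL b y * rhoL b x :=
  LieHom.map_lie (rep b) x y

theorem zOp_commute (i : ι) (x : L) : Commute (zOp φ b i) (rhoL b x) := by
  have h := pow_sub_map_commute (p := p) (A := Module.End k (Word ι →₀ k)) (rhoL b) (rhoL_lie b) φ
    (b i) x
  exact h

theorem zOp_commute_zOp (i j : ι) : Commute (zOp φ b i) (zOp φ b j) := by
  show zOp φ b i * zOp φ b j = zOp φ b j * zOp φ b i
  conv_lhs => arg 2; rw [zOp]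
  conv_rhs => arg 1; rw [zOp]
  exact (((zOp_commute φ b i (b j)).pow_right p).sub_right
    (R := Module.End k (Word ι →₀ k)) (zOp_commute φ b i (φ (b j)))).eq

theorem zOp_single_sub_mem (i : ι) (m : Word ι) :
    zOp φ b i (single m 1) - single (Word.ofMS (m.ms + Multiset.replicate p i)) 1 ∈
      below k ι (m.len + p) := by
  have h2 := hp.out.two_le
  obtain ⟨n, hn⟩ : ∃ n, p = n + 1 := ⟨p - 1, by omega⟩
  have e1 : (rhoL b (b i) ^ p) (single m 1) - single (Word.ofMS (m.ms + Multiset.replicate p i)) 1 ∈
      below k ι (m.len + p) := by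
    rw [← Word.ins_iterate, rhoL_basis, hn]
    exact upTo_le_below (by omega) (rho_pow_sub_mem b i m n)
  have e2 : rhoL b (φ (b i)) (single m 1) ∈ below k ι (m.len + p) :=
    upTo_le_below (by omega) (rhoL_mem b _ (single_mem_upTo le_rfl 1))
  have := sub_mem e1 e2
  rw [zOp, LinearMap.sub_apply]
  convert this using 1
  abel

theorem zOp_below (i : ι) {d : ℕ} {v : Word ι →₀ k} (hv : v ∈ below k ι d) :
    zOp φ b i v ∈ below k ι (d + p) := by
  refine mem_of_single rfl _ (fun q hq => ?_) hv
  have hlen : (Word.ofMS (q.ms + Multiset.replicate p i)).len = q.len + p := by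
    rw [Word.len_ofMS, Word.len_eq_card]; simp
  have h := add_mem
    ((Finsupp.supported_mono (M := k) (R := k)
      (show {r : Word ι | r.len < q.len + p} ⊆ {r | r.len < d + p} from
        fun r hr => Nat.lt_of_lt_of_le (m := q.len + p) hr
          (Nat.add_le_add_right (Nat.le_of_lt hq) p))) (zOp_single_sub_mem φ b i q))
    (Finsupp.single_mem_supported k (1 : k) (s := {r : Word ι | r.len < d + p})
      (show (Word.ofMS (q.ms + Multiset.replicate p i)).len < d + p by have hq' : q.len < d := hq; rw [hlen]; omega))
  simpa [below] using h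

include hp in
open Classical in
/-- The new basis adapted to the central elements. -/
noncomputable def phi (s : Multiset ι) : Word ι →₀ k :=
  if h : ∃ i, p ≤ s.count i then
    have _hpos : 0 < p := hp.out.pos
    zOp φ b h.choose (phi (s - Multiset.replicate p h.choose))
  else single (Word.ofMS s) 1
termination_by s.card
decreasing_by
  classical
  have hle := Multiset.le_count_iff_replicate_le.mp h.choose_spec
  rw [Multiset.card_sub hle, Multiset.card_replicate]
  have h2 := Multiset.card_le_card hle
  rw [Multiset.card_replicate] at h2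
  omega

theorem phi_of_restricted {s : Multiset ι} (h : ∀ i, s.count i < p) :
    phi φ b s = single (Word.ofMS s) 1 := by
  rw [phi, dif_neg]
  rintro ⟨i, hi⟩
  exact absurd (h i) (not_lt.mpr hi)

theorem phi_add (i : ι) (s : Multiset ι) :
    phi φ b (s + Multiset.replicate p i) = zOp φ b i (phi φ b s) := by
  classical
  induction hs : s.card using Nat.strong_induction_on generalizing s i with
  | _ N ih =>
    have h : ∃ j, p ≤ (s + Multiset.replicate p i).count j :=
      ⟨i, by rw [Multiset.count_add, Multiset.count_replicate_self]; omega⟩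
    conv_lhs => rw [phi, dif_pos h]
    have hj := h.choose_spec
    generalize h.choose = j at hj ⊢
    by_cases hji : j = i
    · subst hji; rw [add_tsub_cancel_right]
    · have hjs : p ≤ s.count j := by
        rw [Multiset.count_add, Multiset.count_replicate, if_neg (Ne.symm hji)] at hj; omega
      obtain ⟨s', rfl⟩ := exists_add_of_le (Multiset.le_count_iff_replicate_le.mp hjs)
      have hcard : s'.card < N := by
        rw [← hs, Multiset.card_add, Multiset.card_replicate]
        have := hp.out.pos; omega
      rw [add_assoc, add_tsub_cancel_left, ih s'.card hcard i s' rfl,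
        add_comm (Multiset.replicate p j) s', ih s'.card hcard j s' rfl,
        ← Module.End.mul_apply, ← Module.End.mul_apply, (zOp_commute_zOp φ b j i).eq]

theorem phi_sub_mem (s : Multiset ι) :
    phi φ b s - single (Word.ofMS s) 1 ∈ below k ι s.card := by
  classical
  induction hs : s.card using Nat.strong_induction_on generalizing s with
  | _ N ih =>
    subst hs
    by_cases h : ∃ i, p ≤ s.count i
    · obtain ⟨i, hi⟩ := h
      obtain ⟨s', rfl⟩ := exists_add_of_le (Multiset.le_count_iff_replicate_le.mp hi)
      have hcard : (Multiset.replicate p i + s').card = s'.card + p := by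
        rw [Multiset.card_add, Multiset.card_replicate, add_comm]
      have hlt : s'.card < (Multiset.replicate p i + s').card := by
        have := hp.out.pos; omega
      have h1 := zOp_below φ b i (ih s'.card hlt s' rfl)
      have h2 := zOp_single_sub_mem φ b i (Word.ofMS s')
      rw [Word.len_ofMS, Word.ms_ofMS] at h2
      rw [_root_.map_sub] at h1
      have := add_mem h1 h2
      rwa [sub_add_sub_cancel, ← phi_add φ b i s', add_comm s', ← hcard] at this
    · push Not at h
      rw [phi_of_restricted φ b h, sub_self]
      exact zero_mem _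

/-- The linear extension of `phi`. -/
noncomputable def phiL : (Word ι →₀ k) →ₗ[k] Word ι →₀ k :=
  linearCombination k fun m => phi φ b m.ms

theorem phiL_single (m : Word ι) : phiL φ b (single m 1) = phi φ b m.ms := by simp [phiL]

theorem phiL_bijective : Function.Bijective (phiL φ b) := by
  classical
  have hsub : ∀ m : Word ι, phi φ b m.ms - single m 1 ∈ below k ι m.len := by
    intro m
    have := phi_sub_mem φ b m.ms
    rwa [Word.ofMS_ms, ← Word.len_eq_card] at this
  refine ⟨?_, ?_⟩
  · rw [← LinearMap.ker_eq_bot, LinearMap.ker_eq_bot']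
    intro v hv
    by_contra hne
    obtain ⟨m, hm, hmax⟩ := Finset.exists_max_image v.support Word.len
      (Finsupp.support_nonempty_iff.mpr hne)
    have h : (phiL φ b v) m = v m := by
      rw [phiL, Finsupp.linearCombination_apply, Finsupp.sum, Finsupp.finsetSum_apply,
        Finset.sum_eq_single m]
      · have h0 := (Finsupp.mem_supported' k _).mp (hsub m) m (lt_irrefl m.len)
        rw [Finsupp.sub_apply, Finsupp.single_eq_same, sub_eq_zero] at h0
        rw [Finsupp.smul_apply, h0, smul_eq_mul, mul_one]
      · intro q hq hqm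
        have h0 := (Finsupp.mem_supported' k _).mp (hsub q) m (not_lt.mpr (hmax q hq))
        rw [Finsupp.sub_apply, Finsupp.single_eq_of_ne (Ne.symm hqm), sub_zero] at h0
        rw [Finsupp.smul_apply, h0, smul_zero]
      · intro h; exact absurd hm h
    rw [hv, Finsupp.zero_apply] at h
    exact Finsupp.mem_support_iff.mp hm h.symm
  · rw [← LinearMap.range_eq_top, eq_top_iff]
    have key : ∀ m : Word ι, (single m 1 : Word ι →₀ k) ∈ LinearMap.range (phiL φ b) := by
      intro m
      induction hm : m.len using Nat.strong_induction_on generalizing m with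
      | _ N ih =>
        subst hm
        have hrest : below k ι m.len ≤ LinearMap.range (phiL φ b) := by
          rw [below, Finsupp.supported_eq_span_single, Submodule.span_le]
          rintro _ ⟨q, hq, rfl⟩
          exact ih q.len hq q rfl
        have := sub_mem (LinearMap.mem_range_self (phiL φ b) (single m 1))
          (hrest (phiL_single φ b m ▸ hsub m))
        rw [phiL_single, sub_sub_cancel] at this
        exact this
    intro v _
    rw [← Finsupp.sum_single v]
    refine Submodule.sum_mem _ fun q _ => ?_
    simpa using Submodule.smul_mem _ (v q) (key q)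

variable (p ι) in
/-- Restricted sorted words. -/
abbrev RWord := {m : Word ι // ∀ i, m.ms.count i < p}

omit hp in
instance [Finite ι] : Finite (RWord p ι) := by
  classical
  refine Finite.of_injective (fun m => (fun i => (⟨_, m.2 i⟩ : Fin p))) fun m m' h => ?_
  exact Subtype.ext (Word.ms_injective (Multiset.ext.mpr fun i => congrArg Fin.val (congrFun h i)))

/-- Projection to restricted words. -/
noncomputable def proj : (Word ι →₀ k) →ₗ[k] RWord p ι →₀ k :=
  Finsupp.lcomapDomain (Subtype.val : RWord p ι → Word ι) Subtype.val_injective ∘ₗ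
    (LinearEquiv.ofBijective (phiL φ b) (phiL_bijective φ b)).symm.toLinearMap

variable (k p ι) in
/-- The inclusion of restricted words. -/
noncomputable def sec : (RWord p ι →₀ k) →ₗ[k] Word ι →₀ k :=
  Finsupp.lmapDomain k k (Subtype.val : RWord p ι → Word ι)

theorem proj_phiL (v : Word ι →₀ k) :
    proj φ b (phiL φ b v) = Finsupp.lcomapDomain (R := k) (M := k)
      (Subtype.val : RWord p ι → Word ι) Subtype.val_injective v := by
  simp [proj, LinearEquiv.ofBijective_symm_apply_apply]

omit hp [CharP k p] in
theorem sec_single (r : RWord p ι) : sec k p ι (single r 1) = single r.1 1 := by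
  simp [sec]

theorem proj_single (r : RWord p ι) : proj φ b (single r.1 1) = single r 1 := by
  have h : (single r.1 1 : Word ι →₀ k) = phiL φ b (single r.1 1) := by
    rw [phiL_single, phi_of_restricted φ b r.2, Word.ofMS_ms]
  rw [h, proj_phiL]
  ext q
  show (single r.1 (1 : k) : Word ι →₀ k) q.1 = (single r (1 : k) : RWord p ι →₀ k) q
  classical
  simp [Finsupp.single_apply, Subtype.ext_iff]

theorem proj_sec (v : RWord p ι →₀ k) : proj φ b (sec k p ι v) = v := by
  induction v using Finsupp.induction_linear with
  | zero => simp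
  | add x y hx hy => rw [_root_.map_add, _root_.map_add, hx, hy]
  | single r c =>
    rw [← mul_one c, ← smul_eq_mul, ← Finsupp.smul_single, _root_.map_smul, _root_.map_smul,
      sec_single, proj_single]

theorem proj_phi_of_not_restricted {s : Multiset ι} (h : ¬ ∀ i, s.count i < p) :
    proj φ b (phi φ b s) = 0 := by
  have h' : phi φ b s = phiL φ b (single (Word.ofMS s) 1) := by rw [phiL_single, Word.ms_ofMS]
  rw [h', proj_phiL]
  ext q
  show (single (Word.ofMS s) (1 : k) : Word ι →₀ k) q.1 = 0
  classical
  rw [Finsupp.single_apply, if_neg]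
  intro e
  exact h fun i => by have := q.2 i; rwa [← e, Word.ms_ofMS] at this

theorem proj_zOp (i : ι) (v : Word ι →₀ k) : proj φ b (zOp φ b i v) = 0 := by
  obtain ⟨u, rfl⟩ := (phiL_bijective φ b).2 v
  induction u using Finsupp.induction_linear with
  | zero => simp
  | add x y hx hy => simp only [_root_.map_add, hx, hy, add_zero]
  | single q c =>
    rw [← mul_one c, ← smul_eq_mul, ← Finsupp.smul_single]
    simp only [_root_.map_smul]
    rw [phiL_single, ← phi_add, proj_phi_of_not_restricted φ b, smul_zero]
    intro h
    have := h i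
    rw [Multiset.count_add, Multiset.count_replicate_self] at this
    omega

theorem proj_rhoL_sec_proj (x : L) (v : Word ι →₀ k) :
    proj φ b (rhoL b x (sec k p ι (proj φ b v))) = proj φ b (rhoL b x v) := by
  classical
  obtain ⟨u, rfl⟩ := (phiL_bijective φ b).2 v
  induction u using Finsupp.induction_linear with
  | zero => simp
  | add x' y hx hy => simp only [_root_.map_add, hx, hy]
  | single q c =>
    rw [← mul_one c, ← smul_eq_mul, ← Finsupp.smul_single]
    simp only [_root_.map_smul]
    congr 1
    rw [phiL_single]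
    by_cases h : ∀ i, q.ms.count i < p
    · rw [phi_of_restricted φ b h, Word.ofMS_ms, proj_single φ b ⟨q, h⟩, sec_single]
    · rw [proj_phi_of_not_restricted φ b h]
      push Not at h
      obtain ⟨i, hi⟩ := h
      obtain ⟨s', hs'⟩ := exists_add_of_le (Multiset.le_count_iff_replicate_le.mp hi)
      rw [_root_.map_zero, _root_.map_zero, _root_.map_zero, hs',
        add_comm (Multiset.replicate p i) s', phi_add, ← Module.End.mul_apply,
        ← (zOp_commute φ b i x).eq, Module.End.mul_apply, proj_zOp]

/-- The restricted PBW representation. -/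
noncomputable def rrep : L →ₗ[k] Module.End k (RWord p ι →₀ k) where
  toFun x := proj φ b ∘ₗ rhoL b x ∘ₗ sec k p ι
  map_add' x y := by rw [_root_.map_add, LinearMap.add_comp, LinearMap.comp_add]
  map_smul' c x := by
    rw [_root_.map_smul, LinearMap.smul_comp, LinearMap.comp_smul, RingHom.id_apply]

theorem rrep_proj (x : L) (v : Word ι →₀ k) :
    rrep φ b x (proj φ b v) = proj φ b (rhoL b x v) :=
  proj_rhoL_sec_proj φ b x v

theorem rrep_pow_proj (x : L) (v : Word ι →₀ k) :
    ∀ n, (rrep φ b x ^ n) (proj φ b v) = proj φ b ((rhoL b x ^ n) v) := by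
  intro n
  induction n with
  | zero => rfl
  | succ n ih =>
    rw [pow_succ', Module.End.mul_apply, pow_succ', Module.End.mul_apply, ih, rrep_proj]

theorem rrep_lie (x y : L) :
    rrep φ b ⁅x, y⁆ = rrep φ b x * rrep φ b y - rrep φ b y * rrep φ b x := by
  refine LinearMap.ext fun v => ?_
  rw [← proj_sec φ b v, LinearMap.sub_apply, Module.End.mul_apply, Module.End.mul_apply]
  simp only [rrep_proj, ← _root_.map_sub]
  rw [rhoL_lie, LinearMap.sub_apply, Module.End.mul_apply, Module.End.mul_apply]

theorem rrep_pMap (x : L) : rrep φ b (φ x) = rrep φ b x ^ p := by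
  refine map_pMap_of_basis (A := Module.End k (RWord p ι →₀ k)) (rrep φ b) (rrep_lie φ b) φ b (fun i => LinearMap.ext fun v => ?_) x
  rw [← proj_sec φ b v, rrep_proj, rrep_pow_proj]
  have h := proj_zOp φ b i (sec k p ι v)
  rw [zOp, LinearMap.sub_apply, _root_.map_sub, sub_eq_zero] at h
  exact h.symm

theorem rrep_low (i : ι) (r : RWord p ι) (h : ∀ x ∈ r.1.1, i ≤ x)
    (hc : ∀ j, (r.1.cons i h).ms.count j < p) :
    rrep φ b (b i) (single r 1) = single ⟨r.1.cons i h, hc⟩ 1 := by
  show proj φ b (rhoL b (b i) (sec k p ι (single r 1))) = _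
  rw [sec_single, rhoL_basis, rho_low b h, proj_single φ b ⟨r.1.cons i h, hc⟩]

variable (p ι) in
/-- The empty restricted word. -/
def emptyWord : RWord p ι :=
  ⟨⟨[], List.Pairwise.nil⟩, fun i => by simp [Word.ms, hp.out.pos]⟩

variable (p) in
/-- The restricted word with one letter. -/
def letterWord (i : ι) : RWord p ι :=
  ⟨⟨[i], List.pairwise_singleton _ i⟩, fun j =>
    lt_of_le_of_lt (Multiset.count_le_card _ _) (by simpa [Word.ms] using hp.out.one_lt)⟩

omit [CharP k p] in
theorem letterWord_injective : Function.Injective (letterWord p (ι := ι)) := fun i j h => by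
  have := congrArg (fun r : RWord p ι => r.1.1) h
  simpa [letterWord] using this

theorem rrep_emptyWord (x : L) :
    rrep φ b x (single (emptyWord p ι) 1) = (b.repr x).mapDomain (letterWord p) := by
  show proj φ b (rhoL b x (sec k p ι (single (emptyWord p ι) 1))) = _
  rw [sec_single]
  show proj φ b (rhoL b x (single (⟨[], List.Pairwise.nil⟩ : Word ι) 1)) = _
  rw [rhoL_nil, Finsupp.mapDomain, Finsupp.sum, _root_.map_sum, Finsupp.mapDomain, Finsupp.sum]
  refine Finset.sum_congr rfl fun i _ => ?_
  rw [← mul_one (b.repr x i), ← smul_eq_mul, ← Finsupp.smul_single, _root_.map_smul,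
    ← Finsupp.smul_single]
  exact congrArg _ (proj_single φ b (letterWord p i))

theorem rrep_injective : Function.Injective (rrep φ b) := by
  intro x y h
  have h' := congrArg (fun T => T (single (emptyWord p ι) (1 : k))) h
  simp only [rrep_emptyWord] at h'
  exact b.repr.injective (Finsupp.mapDomain_injective letterWord_injective h')

theorem isPSubOfAssoc_rrep : PLie.IsPSubOfAssoc (A := Module.End k (RWord p ι →₀ k)) φ (rrep φ b) :=
  ⟨rrep_injective φ b, rrep_lie φ b, rrep_pMap φ b⟩

end Restricted

end Groth.Agent.PLie23
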