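import Groth.Agent.Lib.PLie23.Restricted
import Mathlib.LinearAlgebra.TensorAlgebra.Basic
import Mathlib.Algebra.RingQuot
import Mathlib.RingTheory.HopfAlgebra.Basic
import Mathlib.RingTheory.TensorProduct.Maps
import Mathlib.RingTheory.Coalgebra.Basic
import Mathlib.Algebra.CharP.Lemmas

/-!
# The restricted enveloping algebra of a restricted Lie algebra, as a Hopf algebra
-/

set_option autoImplicit false
universe u v w

namespace Groth.Agent.PLie23

open Finsupp PLie TensorProduct

section Algebra

variable {k : Type u} [CommRing k] {p : ℕ} [CharP k p] {L : Type v} [LieRing L] [LieAlgebra k L]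
  (φ : PLie.PMap k p L)

/-- The relations of the restricted enveloping algebra. -/
inductive URel : TensorAlgebra k L → TensorAlgebra k L → Prop
  | lie (x y : L) : URel (TensorAlgebra.ι k x * TensorAlgebra.ι k y)
      (TensorAlgebra.ι k y * TensorAlgebra.ι k x + TensorAlgebra.ι k ⁅x, y⁆)
  | pow (x : L) : URel (TensorAlgebra.ι k x ^ p) (TensorAlgebra.ι k (φ x))

/-- The restricted enveloping algebra. -/
abbrev U := RingQuot (URel φ)

/-- The canonical map into the restricted enveloping algebra. -/
noncomputable def ιU : L →ₗ[k] U φ :=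
  (RingQuot.mkAlgHom k (URel φ)).toLinearMap ∘ₗ TensorAlgebra.ι k

theorem ιU_apply (x : L) : ιU φ x = RingQuot.mkAlgHom k (URel φ) (TensorAlgebra.ι k x) := rfl

theorem ιU_lie (x y : L) : ιU φ ⁅x, y⁆ = ιU φ x * ιU φ y - ιU φ y * ιU φ x := by
  have h := RingQuot.mkAlgHom_rel k (URel.lie (φ := φ) x y)
  rw [map_mul, map_add, map_mul] at h
  rw [ιU_apply, ιU_apply, ιU_apply, h, add_sub_cancel_left]

theorem ιU_pow (x : L) : ιU φ x ^ p = ιU φ (φ x) := by
  have h := RingQuot.mkAlgHom_rel k (URel.pow (φ := φ) x)
  rwa [map_pow] at h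

variable {A : Type w} [Semiring A] [Algebra k A]

/-- The universal property. -/
noncomputable def liftU (e : L →ₗ[k] A) (he : ∀ x y : L, e x * e y = e y * e x + e ⁅x, y⁆)
    (hp' : ∀ x : L, e (φ x) = e x ^ p) : U φ →ₐ[k] A :=
  RingQuot.liftAlgHom k ⟨TensorAlgebra.lift k e, by
    intro a c h
    cases h with
    | lie x y => simpa using he x y
    | pow x => simp [hp']⟩

theorem liftU_ι (e : L →ₗ[k] A) (he : ∀ x y : L, e x * e y = e y * e x + e ⁅x, y⁆)
    (hp' : ∀ x : L, e (φ x) = e x ^ p) (x : L) : liftU φ e he hp' (ιU φ x) = e x := by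
  rw [ιU_apply, liftU, RingQuot.liftAlgHom_mkAlgHom_apply, TensorAlgebra.lift_ι_apply]

theorem U_induction {C : U φ → Prop} (hc : ∀ c : k, C (algebraMap k (U φ) c))
    (hι : ∀ x : L, C (ιU φ x)) (hmul : ∀ a c, C a → C c → C (a * c))
    (hadd : ∀ a c, C a → C c → C (a + c)) (a : U φ) : C a := by
  obtain ⟨t, rfl⟩ := RingQuot.mkAlgHom_surjective k (URel φ) a
  induction t using TensorAlgebra.induction with
  | algebraMap c => rw [AlgHom.commutes]; exact hc c
  | ι x => exact hι x
  | mul a c ha hc' => rw [map_mul]; exact hmul _ _ ha hc'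
  | add a c ha hc' => rw [map_add]; exact hadd _ _ ha hc'

theorem U_hom_ext {f g : U φ →ₐ[k] A} (h : ∀ x, f (ιU φ x) = g (ιU φ x)) : f = g := by
  refine AlgHom.ext fun a => ?_
  induction a using U_induction φ with
  | hc c => simp
  | hι x => exact h x
  | hmul a c ha hc => rw [map_mul, map_mul, ha, hc]
  | hadd a c ha hc => rw [map_add, map_add, ha, hc]

end Algebra

section PBW

attribute [local instance 100] LieRing.ofAssociativeRing

variable {k : Type u} [CommRing k] {p : ℕ} [hp : Fact p.Prime] [CharP k p]
  {L : Type v} [LieRing L] [LieAlgebra k L] {ι : Type w} [LinearOrder ι]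
  (φ : PLie.PMap k p L) (b : Module.Basis ι k L)

/-- The product of the letters of a list. -/
noncomputable def prodU (l : List ι) : U φ := (l.map fun i => ιU φ (b i)).prod

omit hp in
@[simp] theorem prodU_nil : prodU φ b [] = 1 := rfl

omit hp in
@[simp] theorem prodU_cons (i : ι) (l : List ι) :
    prodU φ b (i :: l) = ιU φ (b i) * prodU φ b l := by simp [prodU]

/-- The map from words to the restricted enveloping algebra. -/
noncomputable def psi0 : (Word ι →₀ k) →ₗ[k] U φ :=
  linearCombination k fun m => prodU φ b m.1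

omit hp in
theorem psi0_single (m : Word ι) : psi0 φ b (single m 1) = prodU φ b m.1 := by simp [psi0]

omit hp in
theorem psi0_rho : ∀ (m : Word ι) (i : ι),
    psi0 φ b (rho b i (single m 1)) = ιU φ (b i) * psi0 φ b (single m 1) := by
  suffices H : ∀ (N : ℕ) (m : Word ι), m.len ≤ N → ∀ i,
      psi0 φ b (rho b i (single m 1)) = ιU φ (b i) * psi0 φ b (single m 1) from
    fun m i => H m.len m le_rfl i
  intro N
  induction N using Nat.strong_induction_on with
  | _ N ih =>
    intro m hm i
    by_cases hlow : ∀ x ∈ m.1, i ≤ x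
    · rw [rho_low b hlow, psi0_single, psi0_single]
      exact prodU_cons φ b i m.1
    obtain ⟨l, hl⟩ := m
    cases l with
    | nil => simp at hlow
    | cons j t =>
      have ha : ∀ x ∈ t, j ≤ x := (List.pairwise_cons.1 hl).1
      have hji : j < i := lt_of_not_ge fun h =>
        hlow (List.forall_mem_cons.2 ⟨h, fun x hx => le_trans h (ha x hx)⟩)
      let T : Word ι := ⟨t, hl.of_cons⟩
      have hT : T.len < N := by simp [T, Word.len] at hm ⊢; omega
      have hlowins : ∀ x ∈ (T.ins i).1, j ≤ x := fun x hx => by
        rcases List.mem_orderedInsert (r := (· ≤ ·)).1 hx with rfl | hx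
        exacts [hji.le, ha x hx]
      have hd : ∀ v ∈ upTo k ι T.len, psi0 φ b (rho b j v) = ιU φ (b j) * psi0 φ b v := by
        intro v hv
        rw [upTo, Finsupp.supported_eq_span_single] at hv
        induction hv using Submodule.span_induction with
        | mem v hv =>
          obtain ⟨q, hq, rfl⟩ := hv
          exact ih T.len hT q hq j
        | zero => simp
        | add v w _ _ hv hw => simp only [map_add, hv, hw, mul_add]
        | smul c v _ hv => simp only [map_smul, hv, mul_smul_comm]
      have hL : ∀ x : L, psi0 φ b (rhoL b x (single T 1)) = ιU φ x * psi0 φ b (single T 1) := by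
        intro x
        induction b.mem_span x using Submodule.span_induction with
        | mem x hx => obtain ⟨q, rfl⟩ := hx; rw [rhoL_basis]; exact ih T.len hT T le_rfl q
        | zero => simp
        | add x y _ _ hx hy => simp only [map_add, LinearMap.add_apply, hx, hy, add_mul]
        | smul c x _ hx => simp only [map_smul, LinearMap.smul_apply, hx, smul_mul_assoc]
      have hmT : (⟨j :: t, hl⟩ : Word ι) = T.cons j ha := rfl
      have hrest := hd _ (rho_sub_mem b i T)
      rw [hmT, rho_step b ha hji, map_add, hL]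
      have e1 : psi0 φ b (rho b j (rho b i (single T 1))) =
          ιU φ (b j) * psi0 φ b (rho b i (single T 1)) := by
        have hlow' : psi0 φ b (rho b j (single (T.ins i) 1)) =
            ιU φ (b j) * psi0 φ b (single (T.ins i) 1) := by
          rw [rho_low b hlowins, psi0_single, psi0_single]
          exact prodU_cons φ b j (T.ins i).1
        have hsplit : rho b i (single T 1) =
            single (T.ins i) 1 + (rho b i (single T 1) - single (T.ins i) 1) := by abel
        rw [hsplit, map_add, map_add, map_add, mul_add, hrest, hlow']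
      rw [e1, ih T.len hT T le_rfl i, ιU_lie, psi0_single, psi0_single]
      show _ = ιU φ (b i) * prodU φ b (j :: t)
      rw [prodU_cons]
      show ιU φ (b j) * (ιU φ (b i) * prodU φ b t) +
        (ιU φ (b i) * ιU φ (b j) - ιU φ (b j) * ιU φ (b i)) * prodU φ b t = _
      rw [sub_mul, mul_assoc, mul_assoc, add_sub_cancel]

omit hp in
theorem psi0_rhoL (x : L) (v : Word ι →₀ k) :
    psi0 φ b (rhoL b x v) = ιU φ x * psi0 φ b v := by
  induction v using Finsupp.induction_linear with
  | zero => simp
  | add v w hv hw => simp only [map_add, hv, hw, mul_add]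
  | single m c =>
    rw [← mul_one c, ← smul_eq_mul, ← Finsupp.smul_single]
    simp only [map_smul, mul_smul_comm]
    congr 1
    induction b.mem_span x using Submodule.span_induction with
    | mem x hx => obtain ⟨q, rfl⟩ := hx; rw [rhoL_basis]; exact psi0_rho φ b m q
    | zero => simp
    | add x y _ _ hx hy => simp only [map_add, LinearMap.add_apply, hx, hy, add_mul]
    | smul c x _ hx => simp only [map_smul, LinearMap.smul_apply, hx, smul_mul_assoc]

theorem psi0_zOp (i : ι) (v : Word ι →₀ k) : psi0 φ b (zOp φ b i v) = 0 := by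
  have hpow : ∀ n, psi0 φ b ((rhoL b (b i) ^ n) v) = ιU φ (b i) ^ n * psi0 φ b v := by
    intro n
    induction n with
    | zero => simp
    | succ n ih => rw [pow_succ', Module.End.mul_apply, psi0_rhoL, ih, pow_succ', mul_assoc]
  rw [zOp, LinearMap.sub_apply, map_sub, hpow, psi0_rhoL, ιU_pow, sub_self]

/-- The map from restricted words to the restricted enveloping algebra. -/
noncomputable def psi : (RWord p ι →₀ k) →ₗ[k] U φ := psi0 φ b ∘ₗ sec k p ι

theorem psi_single (r : RWord p ι) : psi φ b (single r 1) = prodU φ b r.1.1 := by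
  rw [psi, LinearMap.comp_apply, sec_single, psi0_single]

theorem psi_proj (v : Word ι →₀ k) : psi φ b (proj φ b v) = psi0 φ b v := by
  classical
  obtain ⟨u, rfl⟩ := (phiL_bijective φ b).2 v
  induction u using Finsupp.induction_linear with
  | zero => simp
  | add x' y hx hy => simp only [map_add, hx, hy]
  | single q c =>
    rw [← mul_one c, ← smul_eq_mul, ← Finsupp.smul_single]
    simp only [map_smul]
    congr 1
    rw [phiL_single]
    by_cases h : ∀ i, q.ms.count i < p
    · rw [phi_of_restricted φ b h, Word.ofMS_ms, proj_single φ b ⟨q, h⟩, psi_single, psi0_single]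
    · rw [proj_phi_of_not_restricted φ b h]
      push Not at h
      obtain ⟨i, hi⟩ := h
      obtain ⟨s', hs'⟩ := exists_add_of_le (Multiset.le_count_iff_replicate_le.mp hi)
      rw [_root_.map_zero, hs', add_comm (Multiset.replicate p i) s', phi_add, psi0_zOp]

theorem psi_rrep (x : L) (v : RWord p ι →₀ k) :
    psi φ b (rrep φ b x v) = ιU φ x * psi φ b v := by
  rw [← proj_sec φ b v, rrep_proj, psi_proj, psi_proj, psi0_rhoL]

theorem rrep_lie' (x y : L) :
    rrep φ b x * rrep φ b y = rrep φ b y * rrep φ b x + rrep φ b ⁅x, y⁆ := by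
  rw [rrep_lie]
  exact (add_sub_cancel (G := Module.End k (RWord p ι →₀ k)) _ _).symm

/-- The action on restricted words. -/
noncomputable def actU : U φ →ₐ[k] Module.End k (RWord p ι →₀ k) :=
  liftU φ (A := Module.End k (RWord p ι →₀ k)) (rrep φ b) (rrep_lie' φ b) (rrep_pMap φ b)

theorem actU_ι (x : L) : actU φ b (ιU φ x) = rrep φ b x := by
  rw [actU, liftU_ι]

include b in
theorem ιU_injective : Function.Injective (ιU φ) := fun x y h =>
  rrep_injective φ b (by rw [← actU_ι, h, actU_ι])

theorem psi_actU (a : U φ) : ∀ v, psi φ b (actU φ b a v) = a * psi φ b v := by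
  induction a using U_induction φ with
  | hc c =>
    intro v
    rw [AlgHom.commutes, Module.algebraMap_end_apply, map_smul, Algebra.smul_def]
  | hι x => intro v; rw [actU_ι, psi_rrep]
  | hmul a c ha hc => intro v; rw [map_mul, Module.End.mul_apply, ha, hc, mul_assoc]
  | hadd a c ha hc => intro v; rw [map_add, LinearMap.add_apply, map_add, ha, hc, add_mul]

theorem psi_emptyWord : psi φ b (single (emptyWord p ι) 1) = 1 := by
  rw [psi_single]; rfl

theorem actU_prodU : ∀ (r : RWord p ι),
    actU φ b (prodU φ b r.1.1) (single (emptyWord p ι) 1) = single r 1 := by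
  suffices H : ∀ (l : List ι) (r : RWord p ι), r.1.1 = l →
      actU φ b (prodU φ b l) (single (emptyWord p ι) 1) = single r 1 from fun r => H _ r rfl
  intro l
  induction l with
  | nil =>
    intro r hr
    have : r = emptyWord p ι := Subtype.ext (Subtype.ext hr)
    rw [this, prodU_nil, map_one, Module.End.one_apply]
  | cons i t ih =>
    rintro ⟨⟨l, hl⟩, hc⟩ hr
    simp only at hr
    subst hr
    let T : RWord p ι := ⟨⟨t, hl.of_cons⟩, fun j => lt_of_le_of_lt
      (Multiset.count_le_of_le j (by
        show (t : Multiset ι) ≤ ((i :: t : List ι) : Multiset ι)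
        rw [← Multiset.cons_coe]; exact Multiset.le_cons_self _ _)) (hc j)⟩
    rw [prodU_cons, map_mul, Module.End.mul_apply, ih T rfl, actU_ι,
      rrep_low φ b i T (List.pairwise_cons.1 hl).1 (fun j => hc j)]
    rfl

/-- The PBW isomorphism. -/
noncomputable def equivU : U φ ≃ₗ[k] RWord p ι →₀ k :=
  LinearEquiv.ofLinear
    (LinearMap.applyₗ (single (emptyWord p ι) (1 : k)) ∘ₗ (actU φ b).toLinearMap) (psi φ b)
    (by
      refine Finsupp.lhom_ext fun r c => ?_
      rw [← mul_one c, ← smul_eq_mul, ← Finsupp.smul_single]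
      simp only [map_smul, LinearMap.comp_apply, AlgHom.toLinearMap_apply,
        LinearMap.applyₗ_apply_apply, LinearMap.id_coe, id_eq]
      rw [psi_single, actU_prodU])
    (by
      refine LinearMap.ext fun a => ?_
      show psi φ b (actU φ b a _) = a
      rw [psi_actU, psi_emptyWord, mul_one])

/-- The PBW basis. -/
noncomputable def basisU : Module.Basis (RWord p ι) k (U φ) := Module.Basis.ofRepr (equivU φ b)

theorem basisU_apply (r : RWord p ι) : basisU φ b r = prodU φ b r.1.1 := by
  show (equivU φ b).symm (single r 1) = _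
  show psi φ b (single r 1) = _
  rw [psi_single]

include b in
theorem finite_U [Finite ι] : Module.Finite k (U φ) := Module.Finite.of_basis (basisU φ b)

include b in
theorem free_U : Module.Free k (U φ) := Module.Free.of_basis (basisU φ b)

end PBW

section Bialgebra

variable {k : Type u} [CommRing k] {p : ℕ} [hp : Fact p.Prime] [CharP k p]
  {L : Type v} [LieRing L] [LieAlgebra k L] (φ : PLie.PMap k p L)

lemma add_pow_p_of_commute {A : Type w} [Semiring A] [Algebra k A] {x y : A} (h : Commute x y) :
    (x + y) ^ p = x ^ p + y ^ p := by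
  obtain ⟨r, hr⟩ := Commute.exists_add_pow_prime_eq hp.out h
  have hpA : (p : A) = 0 := by
    rw [← map_natCast (algebraMap k A) p, CharP.cast_eq_zero k p, _root_.map_zero]
  rw [hr, hpA]
  simp

/-- `x ↦ x ⊗ 1 + 1 ⊗ x`. -/
noncomputable def diagLin : L →ₗ[k] U φ ⊗[k] U φ :=
  (Algebra.TensorProduct.includeLeft (R := k) (S := k) (A := U φ) (B := U φ)).toLinearMap ∘ₗ ιU φ +
  (Algebra.TensorProduct.includeRight (R := k) (A := U φ) (B := U φ)).toLinearMap ∘ₗ ιU φ

omit hp in
theorem diagLin_apply (x : L) : diagLin φ x = ιU φ x ⊗ₜ 1 + 1 ⊗ₜ ιU φ x := rfl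

/-- The comultiplication. -/
noncomputable def comulU : U φ →ₐ[k] U φ ⊗[k] U φ :=
  liftU φ (diagLin φ)
    (fun x y => by
      simp only [diagLin_apply, add_mul, mul_add, Algebra.TensorProduct.tmul_mul_tmul,
        mul_one, one_mul]
      rw [show ιU φ x * ιU φ y = ιU φ y * ιU φ x + ιU φ ⁅x, y⁆ by rw [ιU_lie, add_sub_cancel],
        add_tmul, tmul_add]
      abel)
    (fun x => by
      have hc : Commute (ιU φ x ⊗ₜ[k] (1 : U φ)) ((1 : U φ) ⊗ₜ[k] ιU φ x) := by
        rw [commute_iff_eq, Algebra.TensorProduct.tmul_mul_tmul,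
          Algebra.TensorProduct.tmul_mul_tmul, one_mul, mul_one]
      rw [diagLin_apply, diagLin_apply, add_pow_p_of_commute (k := k) hc,
        Algebra.TensorProduct.tmul_pow, Algebra.TensorProduct.tmul_pow, one_pow, ιU_pow])

theorem comulU_ι (x : L) : comulU φ (ιU φ x) = ιU φ x ⊗ₜ 1 + 1 ⊗ₜ ιU φ x :=
  liftU_ι φ _ _ _ x

/-- The counit. -/
noncomputable def counitU : U φ →ₐ[k] k :=
  liftU φ 0 (fun x y => by simp) (fun x => by simp [zero_pow hp.out.ne_zero])

theorem counitU_ι (x : L) : counitU φ (ιU φ x) = 0 :=
  liftU_ι φ _ _ _ x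

/-- The bialgebra structure. -/
noncomputable instance instBialgebraU : Bialgebra k (U φ) :=
  Bialgebra.ofAlgHom (comulU φ) (counitU φ)
    (U_hom_ext φ fun x => by
      simp [comulU_ι, Algebra.TensorProduct.one_def, add_tmul, tmul_add]
      abel)
    (U_hom_ext φ fun x => by simp [comulU_ι, counitU_ι])
    (U_hom_ext φ fun x => by simp [comulU_ι, counitU_ι])

theorem comul_U (a : U φ) : Coalgebra.comul (R := k) a = comulU φ a := rfl

theorem counit_U (a : U φ) : Coalgebra.counit (R := k) a = counitU φ a := rfl

instance instIsCocommU : Coalgebra.IsCocomm k (U φ) where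
  comm_comp_comul := by
    have h : ((Algebra.TensorProduct.comm k (U φ) (U φ)).toAlgHom.comp (comulU φ)) = comulU φ :=
      U_hom_ext φ fun x => by simp [comulU_ι, add_comm]
    exact LinearMap.ext fun a => DFunLike.congr_fun h a

/-- The antipode as an antihomomorphism. -/
noncomputable def antiU : U φ →ₐ[k] (U φ)ᵐᵒᵖ :=
  liftU φ ((MulOpposite.opLinearEquiv k).toLinearMap ∘ₗ (-(ιU φ)))
    (fun x y => by
      apply MulOpposite.unop_injective
      simp only [LinearMap.comp_apply, LinearEquiv.coe_coe, MulOpposite.coe_opLinearEquiv,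
        LinearMap.neg_apply, MulOpposite.unop_mul, MulOpposite.unop_add, MulOpposite.unop_op, ιU_lie]
      simp only [neg_sub]
      exact ((neg_mul_neg (α := U φ) _ _).trans ((add_sub_cancel (ιU φ x * ιU φ y) _).symm.trans
        (congrArg (fun z => z + (ιU φ y * ιU φ x - ιU φ x * ιU φ y))
          (neg_mul_neg (α := U φ) (ιU φ x) (ιU φ y)).symm))))
    (fun x => by
      apply MulOpposite.unop_injective
      simp only [LinearMap.comp_apply, LinearEquiv.coe_coe, MulOpposite.coe_opLinearEquiv,
        LinearMap.neg_apply, MulOpposite.unop_op, MulOpposite.unop_pow]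
      have h := add_pow_p_of_commute (k := k) (p := p) ((Commute.refl (ιU φ x)).neg_right)
      rw [add_neg_cancel, zero_pow hp.out.ne_zero, eq_comm, add_eq_zero_iff_eq_neg'] at h
      rw [h, ιU_pow])

/-- The antipode. -/
noncomputable def antipodeU : U φ →ₗ[k] U φ :=
  (MulOpposite.opLinearEquiv k).symm.toLinearMap ∘ₗ (antiU φ).toLinearMap

theorem antipodeU_ι (x : L) : antipodeU φ (ιU φ x) = - ιU φ x := by
  show MulOpposite.unop (antiU φ (ιU φ x)) = _
  rw [antiU, liftU_ι]
  rfl

theorem antipodeU_mul (a c : U φ) : antipodeU φ (a * c) = antipodeU φ c * antipodeU φ a := by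
  show MulOpposite.unop (antiU φ (a * c)) = _
  rw [map_mul]
  rfl

theorem antipodeU_one : antipodeU φ 1 = 1 := by
  show MulOpposite.unop (antiU φ 1) = _
  rw [map_one]
  rfl

theorem antipode_aux_left (c : k) (t t' : U φ ⊗[k] U φ)
    (h : LinearMap.mul' k (U φ) ((antipodeU φ).rTensor (U φ) t) = algebraMap k (U φ) c) :
    LinearMap.mul' k (U φ) ((antipodeU φ).rTensor (U φ) (t * t')) =
      c • LinearMap.mul' k (U φ) ((antipodeU φ).rTensor (U φ) t') := by
  induction t' using TensorProduct.induction_on with
  | zero => simp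
  | add s s' hs hs' => simp only [mul_add, map_add, smul_add, hs, hs']
  | tmul a a' =>
    have key : LinearMap.mul' k (U φ) ((antipodeU φ).rTensor (U φ) (t * (a ⊗ₜ a'))) =
        antipodeU φ a * LinearMap.mul' k (U φ) ((antipodeU φ).rTensor (U φ) t) * a' := by
      clear h
      induction t using TensorProduct.induction_on with
      | zero => simp
      | add s s' hs hs' => simp only [add_mul, map_add, mul_add, hs, hs']
      | tmul d d' =>
        simp [antipodeU_mul, mul_assoc]
    rw [key, h, LinearMap.rTensor_tmul, LinearMap.mul'_apply, ← Algebra.commutes, mul_assoc,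
      ← Algebra.smul_def]

theorem antipode_aux_right (c : k) (t t' : U φ ⊗[k] U φ)
    (h : LinearMap.mul' k (U φ) ((antipodeU φ).lTensor (U φ) t') = algebraMap k (U φ) c) :
    LinearMap.mul' k (U φ) ((antipodeU φ).lTensor (U φ) (t * t')) =
      c • LinearMap.mul' k (U φ) ((antipodeU φ).lTensor (U φ) t) := by
  induction t using TensorProduct.induction_on with
  | zero => simp
  | add s s' hs hs' => simp only [add_mul, map_add, smul_add, hs, hs']
  | tmul a a' =>
    have key : LinearMap.mul' k (U φ) ((antipodeU φ).lTensor (U φ) ((a ⊗ₜ a') * t')) =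
        a * LinearMap.mul' k (U φ) ((antipodeU φ).lTensor (U φ) t') * antipodeU φ a' := by
      clear h
      induction t' using TensorProduct.induction_on with
      | zero => simp
      | add s s' hs hs' => simp only [mul_add, map_add, add_mul, hs, hs']
      | tmul d d' =>
        simp [antipodeU_mul, mul_assoc]
    rw [key, h, LinearMap.lTensor_tmul, LinearMap.mul'_apply, ← Algebra.commutes, mul_assoc,
      ← Algebra.smul_def]

theorem antipode_left (a : U φ) :
    LinearMap.mul' k (U φ) ((antipodeU φ).rTensor (U φ) (comulU φ a)) =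
      algebraMap k (U φ) (counitU φ a) := by
  induction a using U_induction φ with
  | hc c =>
    simp only [AlgHom.commutes, Algebra.TensorProduct.algebraMap_apply]
    simp [Algebra.algebraMap_eq_smul_one, antipodeU_one, smul_tmul']
  | hι x => simp [comulU_ι, antipodeU_ι, antipodeU_one, counitU_ι]
  | hmul a c ha hc =>
    rw [map_mul, antipode_aux_left φ _ _ _ ha, hc, map_mul, map_mul, Algebra.smul_def]
  | hadd a c ha hc => simp only [map_add, ha, hc]

theorem antipode_right (a : U φ) :
    LinearMap.mul' k (U φ) ((antipodeU φ).lTensor (U φ) (comulU φ a)) =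
      algebraMap k (U φ) (counitU φ a) := by
  induction a using U_induction φ with
  | hc c =>
    simp only [AlgHom.commutes, Algebra.TensorProduct.algebraMap_apply]
    simp [Algebra.algebraMap_eq_smul_one, antipodeU_one, smul_tmul']
  | hι x => simp [comulU_ι, antipodeU_ι, antipodeU_one, counitU_ι]
  | hmul a c ha hc =>
    rw [map_mul, antipode_aux_right φ _ _ _ hc, ha, map_mul, map_mul, Algebra.smul_def,
      Algebra.commutes]
  | hadd a c ha hc => simp only [map_add, ha, hc]

/-- The Hopf algebra structure. -/
noncomputable instance instHopfAlgebraU : HopfAlgebra k (U φ) where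
  antipode := antipodeU φ
  mul_antipode_rTensor_comul := LinearMap.ext fun a => antipode_left φ a
  mul_antipode_lTensor_comul := LinearMap.ext fun a => antipode_right φ a

end Bialgebra

section Primitive

variable {k : Type u} [CommRing k] {p : ℕ} [hp : Fact p.Prime] [CharP k p]
  {L : Type v} [LieRing L] [LieAlgebra k L] {ι : Type w} [LinearOrder ι]
  (φ : PLie.PMap k p L) (b : Module.Basis ι k L)

/-- Apply a functional to the left factor of the comultiplication. -/
noncomputable def gMap (f : U φ →ₗ[k] k) : U φ →ₗ[k] U φ :=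
  (TensorProduct.lid k (U φ)).toLinearMap ∘ₗ f.rTensor (U φ) ∘ₗ (comulU φ).toLinearMap

theorem gMap_one (f : U φ →ₗ[k] k) : gMap φ f 1 = f 1 • (1 : U φ) := by
  simp [gMap, Algebra.TensorProduct.one_def]

theorem gMap_ι_mul (f : U φ →ₗ[k] k) (x : L) (a : U φ) :
    gMap φ f (ιU φ x * a) =
      gMap φ (f ∘ₗ LinearMap.mulLeft k (ιU φ x)) a + ιU φ x * gMap φ f a := by
  simp only [gMap, LinearMap.comp_apply, AlgHom.toLinearMap_apply, LinearEquiv.coe_coe, map_mul,
    comulU_ι]
  generalize comulU φ a = t
  induction t using TensorProduct.induction_on with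
  | zero => simp
  | add s s' hs hs' => simp only [mul_add, map_add, hs, hs']; abel
  | tmul c c' =>
    simp [add_mul, Algebra.TensorProduct.tmul_mul_tmul]

omit hp in
theorem prodU_singleton (i : ι) : prodU φ b [i] = ιU φ (b i) := by simp

theorem gMap_prod_of_vanish : ∀ (l : List ι) (f : U φ →ₗ[k] k),
    (∀ s : List ι, s.Sublist l → s ≠ [] → f (prodU φ b s) = 0) →
      gMap φ f (prodU φ b l) = f 1 • prodU φ b l := by
  intro l
  induction l with
  | nil => intro f _; rw [prodU_nil, gMap_one]
  | cons a t ih =>
    intro f hf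
    rw [prodU_cons, gMap_ι_mul,
      ih (f ∘ₗ LinearMap.mulLeft k (ιU φ (b a))) fun s hs _ => by
        have := hf (a :: s) (hs.cons₂ a) (by simp)
        rwa [prodU_cons] at this,
      ih f fun s hs hne => hf s (hs.cons a) hne]
    have h0 : f (ιU φ (b a)) = 0 := by
      rw [← prodU_singleton φ b a]
      exact hf [a] ((List.nil_sublist t).cons₂ a) (by simp)
    simp [h0, mul_smul_comm]

theorem gMap_prod (i : ι) (f : U φ →ₗ[k] k) (h1 : f 1 = 0)
    (hι : ∀ j, f (ιU φ (b j)) = if j = i then 1 else 0) :
    ∀ l : List ι, l.Pairwise (· ≤ ·) →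
      (∀ s : List ι, s.Sublist l → 2 ≤ s.length → f (prodU φ b s) = 0) →
      gMap φ f (prodU φ b l) = l.count i • prodU φ b (l.erase i) := by
  intro l
  induction l with
  | nil => intro _ _; rw [prodU_nil, gMap_one, h1]; simp
  | cons a t ih =>
    intro hl hf
    rw [prodU_cons, gMap_ι_mul,
      gMap_prod_of_vanish φ b t (f ∘ₗ LinearMap.mulLeft k (ιU φ (b a))) (fun s hs hne => by
        have := hf (a :: s) (hs.cons₂ a) (by
          have := List.length_pos_iff.mpr hne
          simp only [List.length_cons]; omega)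
        rwa [prodU_cons] at this),
      ih hl.of_cons fun s hs h2 => hf s (hs.cons a) h2]
    simp only [LinearMap.comp_apply, LinearMap.mulLeft_apply, mul_one, hι]
    by_cases hai : a = i
    · subst hai
      rw [if_pos rfl, one_smul, List.count_cons_self, List.erase_cons_head, succ_nsmul',
        mul_smul_comm]
      by_cases hmem : a ∈ t
      · congr 2
        obtain ⟨j, t', rfl⟩ : ∃ j t', t = j :: t' := List.exists_cons_of_ne_nil (List.ne_nil_of_mem hmem)
        have h1' : a ≤ j := (List.pairwise_cons.1 hl).1 j (List.mem_cons_self ..)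
        have h2' : j ≤ a := by
          rcases List.mem_cons.1 hmem with rfl | h
          · exact le_rfl
          · exact (List.pairwise_cons.1 hl.of_cons).1 a h
        obtain rfl := le_antisymm h1' h2'
        rw [List.erase_cons_head, prodU_cons]
      · rw [List.count_eq_zero_of_not_mem hmem, zero_smul, zero_smul]
    · rw [if_neg hai, zero_smul, zero_add, List.count_cons_of_ne hai,
        List.erase_cons_tail (by simpa using hai), prodU_cons, mul_smul_comm]

theorem isUnit_natCast_of_lt {n : ℕ} (h0 : 0 < n) (hn : n < p) : IsUnit (n : k) := by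
  have hne : (n : ZMod p) ≠ 0 := by
    rw [Ne, ZMod.natCast_eq_zero_iff]
    exact fun e => absurd (Nat.le_of_dvd h0 e) (not_le.mpr hn)
  have h : IsUnit (n : ZMod p) := IsUnit.mk0 _ hne
  simpa using h.map (ZMod.castHom (dvd_refl p) k)

include b in
/-- The primitive elements are those of the Lie algebra. -/
theorem exists_of_primitive [Finite ι] {z : U φ}
    (hz : Coalgebra.comul (R := k) z = z ⊗ₜ 1 + 1 ⊗ₜ z) : ∃ x : L, ιU φ x = z := by
  classical
  haveI := Fintype.ofFinite ι
  haveI := Fintype.ofFinite (RWord p ι)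
  set B := basisU φ b
  let w : L := ∑ i, B.coord (letterWord p i) z • b i
  refine ⟨w, (sub_eq_zero.mp ?_).symm⟩
  set z' := z - ιU φ w
  have hz' : comulU φ z' = z' ⊗ₜ 1 + 1 ⊗ₜ z' := by
    rw [map_sub, comulU_ι, show comulU φ z = _ from hz]
    simp only [sub_tmul, tmul_sub, z']
    abel
  have hBι : ∀ i, B (letterWord p i) = ιU φ (b i) := fun i => by
    rw [basisU_apply]; exact prodU_singleton φ b i
  have hB1 : B (emptyWord p ι) = 1 := by rw [basisU_apply]; rfl
  -- coordinates of `z'`
  have hletter : ∀ i, B.coord (letterWord p i) z' = 0 := by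
    intro i
    simp only [z', w, map_sub, map_sum, map_smul, ← hBι, Module.Basis.coord_apply,
      Module.Basis.repr_self, Finsupp.single_apply, smul_eq_mul, mul_ite, mul_one, mul_zero]
    simp [letterWord_injective.eq_iff]
  have hhigh : ∀ r : RWord p ι, 2 ≤ r.1.1.length → B.coord r z' = 0 := by
    intro r0 hr0
    obtain ⟨i, hi⟩ : ∃ i, i ∈ r0.1.1 :=
      List.exists_mem_of_ne_nil _ (List.ne_nil_of_length_pos (by omega))
    let f := B.coord (letterWord p i)
    have hsub : ∀ (r : RWord p ι) (s : List ι), s.Sublist r.1.1 →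
        ∃ r' : RWord p ι, r'.1.1 = s ∧ B r' = prodU φ b s := fun r s hs =>
      ⟨⟨⟨s, r.1.2.sublist hs⟩, fun j => lt_of_le_of_lt
        (Multiset.count_le_of_le j (Multiset.coe_le.mpr hs.subperm)) (r.2 j)⟩, rfl,
        basisU_apply φ b _⟩
    have hf1 : f 1 = 0 := by
      rw [← hB1]
      simp only [f, Module.Basis.coord_apply, Module.Basis.repr_self]
      exact Finsupp.single_eq_of_ne fun e => by
        simpa [letterWord, emptyWord] using congrArg (fun q : RWord p ι => q.1.1) e
    have hfι : ∀ j, f (ιU φ (b j)) = if j = i then 1 else 0 := fun j => by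
      rw [← hBι]
      simp [f, Finsupp.single_apply, letterWord_injective.eq_iff]
    have hprod : ∀ r : RWord p ι,
        gMap φ f (B r) = r.1.1.count i • prodU φ b (r.1.1.erase i) := by
      intro r
      rw [basisU_apply]
      refine gMap_prod φ b i f hf1 hfι r.1.1 r.1.2 fun s hs h2 => ?_
      obtain ⟨r', hr', hBr'⟩ := hsub r s hs
      rw [← hBr']
      simp only [f, Module.Basis.coord_apply, Module.Basis.repr_self]
      exact Finsupp.single_eq_of_ne fun e => by
        rw [← hr', ← congrArg (fun q : RWord p ι => q.1.1) e] at h2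
        simp [letterWord] at h2
    -- the two evaluations of `gMap f z'`
    have hg : gMap φ f z' = f z' • 1 := by
      show TensorProduct.lid k (U φ) (f.rTensor (U φ) (comulU φ z')) = _
      simp [hz', hf1]
    obtain ⟨r1, hr1, hBr1⟩ := hsub r0 (r0.1.1.erase i) (List.erase_sublist)
    have hcoord := congrArg (B.coord r1) hg
    rw [show f z' = 0 from hletter i, zero_smul, _root_.map_zero] at hcoord
    conv_lhs at hcoord => rw [← B.sum_repr z']
    simp only [map_sum, map_smul, hprod, map_nsmul] at hcoord
    rw [Finset.sum_eq_single r0] at hcoord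
    · rw [← hBr1, Module.Basis.coord_apply, Module.Basis.repr_self, Finsupp.single_eq_same,
        nsmul_eq_mul, mul_one, smul_eq_mul] at hcoord
      have hu := isUnit_natCast_of_lt (k := k) (List.count_pos_iff.mpr hi)
        (by simpa [Word.ms] using r0.2 i)
      exact (hu.mul_left_eq_zero).mp hcoord
    · intro r _ hne
      by_cases hir : i ∈ r.1.1
      · obtain ⟨r2, hr2, hBr2⟩ := hsub r (r.1.1.erase i) (List.erase_sublist)
        rw [← hBr2, Module.Basis.coord_apply, Module.Basis.repr_self, Finsupp.single_eq_of_ne,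
          smul_zero, smul_zero]
        intro e
        apply hne
        apply Subtype.ext
        apply Word.ms_injective
        have e' : r.1.1.erase i = r0.1.1.erase i := by rw [← hr2, ← hr1, e]
        show ((r.1.1 : Multiset ι)) = (r0.1.1 : Multiset ι)
        rw [Multiset.coe_eq_coe]
        exact (List.perm_cons_erase hir).trans (e' ▸ (List.perm_cons_erase hi).symm)
      · simp [List.count_eq_zero_of_not_mem hir]
    · intro h; exact absurd (Finset.mem_univ r0) h
  -- conclude
  have hzero : z' = B.coord (emptyWord p ι) z' • 1 := by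
    conv_lhs => rw [← B.sum_repr z']
    rw [Finset.sum_eq_single (emptyWord p ι)]
    · rw [hB1]; rfl
    · intro r _ hne
      rcases h : r.1.1 with _ | ⟨a, _ | ⟨c, t⟩⟩
      · exact absurd (Subtype.ext (Subtype.ext (by rw [h]; rfl))) hne
      · have : r = letterWord p a := Subtype.ext (Subtype.ext h)
        rw [show B.repr z' r = 0 by rw [this]; exact hletter a, zero_smul]
      · rw [show B.repr z' r = 0 from hhigh r (by rw [h]; simp), zero_smul]
    · intro h; exact absurd (Finset.mem_univ _) h
  have hε : counitU φ z' = 0 := by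
    have h := congrArg (TensorProduct.lid k (U φ)) (congrArg ((counitU φ).toLinearMap.rTensor (U φ)) hz')
    have hcu : (TensorProduct.lid k (U φ)) ((counitU φ).toLinearMap.rTensor (U φ) (comulU φ z')) = z' := by
      have := Coalgebra.rTensor_counit_comul (R := k) z'
      show (TensorProduct.lid k (U φ)) (Coalgebra.counit.rTensor (U φ) (Coalgebra.comul z')) = z'
      rw [this]; simp
    rw [hcu] at h
    simp at h
    have h' := congrArg (counitU φ) h
    simpa using h'
  rw [hzero] at hε
  simp at hε
  rw [hzero]
  simp [hε]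

end Primitive

end Groth.Agent.PLie23
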